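import Groth.Agent.Desc.EtDescent
import Groth.Agent.Etbase.EtSigma
import Groth.Agent.Etbase.EtQC
import Groth.Prelude.Def_EtGm
import Mathlib.CategoryTheory.Sites.DenseSubsite.InducedTopology

/-!
# Étale sheaves from affine objects

* `IsBase Q` : the objects of `X.Etale` with `Q` cover every object.
* `hom_ext`, `exists_hom` : morphisms of abelian étale sheaves are determined by, and can be
  constructed from, their values on a base.
* `exists_sheaf` : a quasi-coherent abelian presheaf `P` maps to an abelian étale sheaf by a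
  morphism which is bijective on all affine objects.
* `etAcyc_of_bij` : Čech acyclicity is transported along such morphisms.
-/

set_option autoImplicit false

universe u

open CategoryTheory CategoryTheory.Limits AlgebraicGeometry Opposite Simplicial

namespace K951.AffSheaf

open Groth.Agent Groth.Agent.Etbase

variable {X : Scheme.{u}}

/-- The objects with `Q` cover every object. -/
class IsBase (Q : ObjectProperty X.Etale) : Prop where
  ex : ∀ (U : X.Etale) (x : U.left), ∃ (V : X.Etale) (g : V ⟶ U) (v : V.left), Q V ∧ g.left v = x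

instance isCoverDense (Q : ObjectProperty X.Etale) [IsBase Q] :
    Q.ι.IsCoverDense X.smallEtaleTopology where
  is_cover U := by
    rw [EtSite.mem_iff]
    intro x
    obtain ⟨V, g, v, hV, hv⟩ := IsBase.ex (Q := Q) U x
    exact ⟨V, g, v, ⟨⟨⟨V, hV⟩, 𝟙 _, g, Category.id_comp _⟩⟩, hv⟩

/-- The affine objects. -/
def Aff (X : Scheme.{u}) : ObjectProperty X.Etale := fun U => IsAffine U.left

theorem isBase_of_opn (Q : ObjectProperty X.Etale)
    (h : ∀ (U : X.Etale) (x : U.left), ∃ W : U.left.Opens, x ∈ W ∧ Q (Desc.EtSheafCrit.opn U W)) :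
    IsBase Q where
  ex U x := by
    obtain ⟨W, hx, hW⟩ := h U x
    exact ⟨_, Desc.EtSheafCrit.inc U W, ⟨x, hx⟩, hW, rfl⟩

instance : IsBase (Aff X) := isBase_of_opn _ fun U x => by
  obtain ⟨W, hW, hxW, -⟩ := exists_isAffineOpen_mem_and_subset (x := x) (U := ⊤) trivial
  exact ⟨W, hxW, hW⟩

section hom

variable (Q : ObjectProperty X.Etale) [IsBase Q]

theorem hom_ext {F G : EtCoh.Ab X} (a b : F ⟶ G)
    (h : ∀ U : X.Etale, Q U → ∀ s, a.hom.app (op U) s = b.hom.app (op U) s) : a = b := by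
  apply ObjectProperty.hom_ext
  ext U s
  refine EtSite.sect_ext G U.unop _ _ fun x => ?_
  obtain ⟨V, g, v, hV, hv⟩ := IsBase.ex (Q := Q) U.unop x
  refine ⟨V, g, v, hv, ?_⟩
  have h1 := ConcreteCategory.congr_hom (a.hom.naturality g.op) s
  have h2 := ConcreteCategory.congr_hom (b.hom.naturality g.op) s
  refine h1.symm.trans (Eq.trans ?_ h2)
  exact h V hV _

/-- Morphisms from a presheaf, built on a base. -/
theorem exists_preHom {F : X.Etaleᵒᵖ ⥤ AddCommGrpCat.{u + 1}} {G : EtCoh.Ab X}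
    (α : ∀ U : X.Etale, Q U → (F.obj (op U) →+ G.obj.obj (op U)))
    (hα : ∀ (U V : X.Etale) (hU : Q U) (hV : Q V) (g : V ⟶ U) (s : F.obj (op U)),
      α V hV (F.map g.op s) = G.obj.map g.op (α U hU s)) :
    ∃ a : F ⟶ G.obj, ∀ (U : X.Etale) (hU : Q U) (s : F.obj (op U)),
      a.app (op U) s = α U hU s := by
  let β : Q.ι.op ⋙ F ⟶ Q.ι.op ⋙ G.obj :=
    { app := fun U => AddCommGrpCat.ofHom (α U.unop.obj U.unop.property)
      naturality := fun U V g => by
        ext s
        exact hα U.unop.obj V.unop.obj U.unop.property V.unop.property g.unop.hom s }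
  refine ⟨Functor.IsCoverDense.restrictHomEquivHom (G := Q.ι) (K := X.smallEtaleTopology) β, ?_⟩
  intro U hU s
  have h := (Functor.IsCoverDense.restrictHomEquivHom (G := Q.ι)
    (K := X.smallEtaleTopology) (ℱ := F) (ℱ' := G)).symm_apply_apply β
  have h2 := congrArg (fun t => t.app (op (⟨U, hU⟩ : Q.FullSubcategory))) h
  exact ConcreteCategory.congr_hom h2 s

/-- Morphisms of abelian étale sheaves, built on a base. -/
theorem exists_hom {F G : EtCoh.Ab X}
    (α : ∀ U : X.Etale, Q U → (F.obj.obj (op U) →+ G.obj.obj (op U)))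
    (hα : ∀ (U V : X.Etale) (hU : Q U) (hV : Q V) (g : V ⟶ U) (s : F.obj.obj (op U)),
      α V hV (F.obj.map g.op s) = G.obj.map g.op (α U hU s)) :
    ∃ a : F ⟶ G, ∀ (U : X.Etale) (hU : Q U) (s : F.obj.obj (op U)),
      a.hom.app (op U) s = α U hU s := by
  obtain ⟨a, ha⟩ := exists_preHom Q α hα
  exact ⟨⟨a⟩, ha⟩

end hom

section sheaf

variable {P : X.Etaleᵒᵖ ⥤ AddCommGrpCat.{u + 1}} (h : EtQC.QC P)

/-- An element of an `A`-module killed by `M → M_B`, `B` flat over `A`, has an annihilator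
whose extension to `B` is contained in no kernel of a map to a field. -/
theorem alg_ann {A B : Type*} [CommRing A] [CommRing B] (φ : A →+* B) (hφ : φ.Flat)
    {M M' : Type*} [AddCommGroup M] [AddCommGroup M'] [Module A M] [Module B M'] (ψ : M →+ M')
    (hψ : FFExact.IsBC φ ψ) (s : M) (hs : ψ s = 0) {K : Type*} [Field K] (e : B →+* K) :
    ∃ a : A, a • s = 0 ∧ e (φ a) ≠ 0 := by
  by_contra hcon
  push Not at hcon
  let := φ.toAlgebra
  have hfl : Module.Flat A B := hφ
  obtain ⟨h1, h2⟩ := hψ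
  let : Module A M' := Module.compHom _ φ
  have : IsScalarTower A B M' := ⟨fun a b m => by
      change (φ a * b) • m = φ a • b • m
      rw [mul_smul]⟩
  let J : Ideal A := LinearMap.ker (LinearMap.toSpanSingleton A M s)
  let l : (A ⧸ J) →ₗ[A] M := Submodule.liftQ J (LinearMap.toSpanSingleton A M s) le_rfl
  have hl : Function.Injective l := by
    rw [← LinearMap.ker_eq_bot]
    exact Submodule.ker_liftQ_eq_bot _ _ _ le_rfl
  have hl2 : Function.Injective (l.lTensor B) :=
    Module.Flat.lTensor_preserves_injective_linearMap l hl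
  have h3 : (1 : B) ⊗ₜ[A] (1 : A ⧸ J) = 0 := by
    apply hl2
    apply h2.equiv.injective
    have h4 : l (1 : A ⧸ J) = s := by
      change LinearMap.toSpanSingleton A M s (1 : A) = s
      rw [LinearMap.toSpanSingleton_apply, one_smul]
    rw [LinearMap.lTensor_tmul, h2.equiv_tmul, h4, map_zero, map_zero]
    change (1 : B) • ψ s = 0
    rw [hs, smul_zero]
  let : Algebra A K := (e.comp φ).toAlgebra
  let eB : B →ₐ[A] K := { e with commutes' := fun _ => rfl }
  let eA : (A ⧸ J) →ₐ[A] K := Ideal.Quotient.liftₐ J (Algebra.ofId A K) (by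
    intro a ha
    exact hcon a (by simpa [J] using ha))
  let t : TensorProduct A B (A ⧸ J) →ₐ[A] K :=
    Algebra.TensorProduct.lift eB eA (fun _ _ => Commute.all _ _)
  have h5 := congrArg t h3
  rw [map_zero, Algebra.TensorProduct.lift_tmul, map_one, map_one, mul_one] at h5
  exact one_ne_zero h5

include h in
/-- Sections over affine objects which vanish locally vanish. -/
theorem eq_zero_of_local (U : X.Etale) (hU : IsAffine U.left) (s : P.obj (op U))
    (hs : ∀ x : U.left, ∃ (V : X.Etale) (_ : IsAffine V.left) (g : V ⟶ U) (v : V.left),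
      g.left v = x ∧ P.map g.op s = 0) : s = 0 := by
  let := h.mod U
  have key : ∀ x : U.left, ∃ a : Γ(U.left, ⊤), a • s = 0 ∧ x ∈ U.left.basicOpen a := by
    intro x
    obtain ⟨V, hV, g, v, hv, hs⟩ := hs x
    let := h.mod V
    obtain ⟨a, ha, ha2⟩ := alg_ann g.left.appTop.hom (Scheme.Hom.flat_appTop g.left)
      (P.map g.op).hom (h.isBC g hV hU) s hs (V.left.evaluation ⊤ v trivial).hom
    refine ⟨a, ha, ?_⟩
    have h1 : v ∈ V.left.basicOpen (g.left.appTop.hom a) :=
      (V.left.evaluation_ne_zero_iff_mem_basicOpen (U := ⊤) v trivial _).1 ha2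
    rw [← hv]
    have h2 := Scheme.preimage_basicOpen g.left a
    have h3 : v ∈ g.left ⁻¹ᵁ U.left.basicOpen a := by rw [h2]; exact h1
    exact h3
  let J : Ideal Γ(U.left, ⊤) :=
    LinearMap.ker (LinearMap.toSpanSingleton Γ(U.left, ⊤) (P.obj (op U)) s)
  have hJ : J = ⊤ := by
    rw [← Ideal.span_eq J]
    rw [← (isAffineOpen_top U.left).iSup_basicOpen_eq_self_iff]
    refine top_le_iff.1 fun x _ => ?_
    obtain ⟨a, ha, hx⟩ := key x
    exact TopologicalSpace.Opens.mem_iSup.2 ⟨⟨a, by simpa [J] using ha⟩, hx⟩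
  have h1 : (1 : Γ(U.left, ⊤)) ∈ J := by rw [hJ]; trivial
  have h2 : (1 : Γ(U.left, ⊤)) • s = 0 := by simpa [J] using h1
  rwa [one_smul] at h2

include h in
theorem eq_of_local (U : X.Etale) (hU : IsAffine U.left) (s t : P.obj (op U))
    (hs : ∀ x : U.left, ∃ (V : X.Etale) (_ : IsAffine V.left) (g : V ⟶ U) (v : V.left),
      g.left v = x ∧ P.map g.op s = P.map g.op t) : s = t := by
  rw [← sub_eq_zero]
  refine eq_zero_of_local h U hU _ fun x => ?_
  obtain ⟨V, hV, g, v, hv, hs⟩ := hs x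
  exact ⟨V, hV, g, v, hv, by rw [map_sub, hs, sub_self]⟩

theorem gaSheaf : Presieve.IsSheaf X.smallEtaleTopology
    ((EtCoh.Ga X).obj ⋙ forget AddCommGrpCat.{u + 1}) :=
  (isSheaf_iff_isSheaf_of_type _ _).1
    ((Presheaf.isSheaf_iff_isSheaf_forget _ _ (forget AddCommGrpCat.{u + 1})).1
      (EtCoh.Ga X).property)

/-- Functions on a coproduct can be prescribed on the pieces. -/
theorem exists_fun {ι : Type u} (V : ι → X.Etale) (a : ∀ i, Γ((V i).left, ⊤)) :
    ∃ b : Γ((EtSigma.sig V).left, ⊤), ∀ i, (EtSigma.sin V i).left.appTop b = a i := by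
  obtain ⟨t, ht⟩ := EtSigma.exists_sect gaSheaf V (fun i => (ULift.up (a i) : ULift.{u + 1} _))
  exact ⟨ULift.down t, fun i => congrArg ULift.down (ht i)⟩

include h in
/-- Sections on a finite coproduct of affine objects can be prescribed on the pieces. -/
theorem exists_sig {ι : Type u} [Finite ι] (V : ι → X.Etale) (hV : ∀ i, IsAffine (V i).left)
    (x : ∀ i, P.obj (op (V i))) :
    ∃ y : P.obj (op (EtSigma.sig V)), ∀ i, P.map (EtSigma.sin V i).op y = x i := by
  classical
  have := Fintype.ofFinite ι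
  have hS : IsAffine (EtSigma.sig V).left := by
    rw [EtSigma.sig_left]
    infer_instance
  let mS := h.mod (EtSigma.sig V)
  let mV := fun i => h.mod (V i)
  -- surjectivity onto the pieces
  have h1 : ∀ i, ∃ y : P.obj (op (EtSigma.sig V)), P.map (EtSigma.sin V i).op y = x i := by
    intro i
    have hsurj : ∀ b : Γ((V i).left, ⊤), ∃ a : Γ((EtSigma.sig V).left, ⊤),
        (EtSigma.sin V i).left.appTop a = b := by
      intro b
      obtain ⟨a, ha⟩ := exists_fun V (fun j => if hj : j = i then hj ▸ b else 0)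
      exact ⟨a, by simpa using ha i⟩
    let φ := (EtSigma.sin V i).left.appTop.hom
    let := φ.toAlgebra
    obtain ⟨h1, h2⟩ := h.isBC (EtSigma.sin V i) (hV i) hS
    let : Module Γ((EtSigma.sig V).left, ⊤) (P.obj (op (V i))) := Module.compHom _ φ
    have : IsScalarTower Γ((EtSigma.sig V).left, ⊤) Γ((V i).left, ⊤) (P.obj (op (V i))) :=
      ⟨fun a b m => by
        change (φ a * b) • m = φ a • b • m
        rw [mul_smul]⟩
    obtain ⟨t, ht⟩ := h2.equiv.surjective (x i)
    rw [← ht]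
    clear ht
    induction t with
    | zero => exact ⟨0, by rw [map_zero, map_zero]⟩
    | tmul b m =>
      obtain ⟨a, ha⟩ := hsurj b
      refine ⟨a • m, ?_⟩
      rw [h2.equiv_tmul]
      refine (h1 a m).trans ?_
      change φ a • _ = b • _
      rw [← ha]
      rfl
    | add s t hs ht =>
      obtain ⟨y, hy⟩ := hs
      obtain ⟨z, hz⟩ := ht
      exact ⟨y + z, by rw [map_add, map_add, hy, hz]⟩
  choose y hy using h1
  have h2 : ∀ i, ∃ e : Γ((EtSigma.sig V).left, ⊤), ∀ j,
      (EtSigma.sin V j).left.appTop e = if j = i then 1 else 0 := fun i =>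
    exists_fun V (fun j => if j = i then 1 else 0)
  choose e he using h2
  refine ⟨∑ i, e i • y i, fun j => ?_⟩
  rw [map_sum, Finset.sum_eq_single j]
  · refine ((h.isBC (EtSigma.sin V j) (hV j) hS).1 (e j) (y j)).trans ?_
    have h3 := he j j
    rw [if_pos rfl] at h3
    refine Eq.trans (congrArg (fun a : Γ((V j).left, ⊤) => a • _) h3) ?_
    rw [one_smul]
    exact hy j
  · intro i _ hi
    refine ((h.isBC (EtSigma.sin V j) (hV j) hS).1 (e i) (y i)).trans ?_
    have h3 := he i j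
    rw [if_neg (Ne.symm hi)] at h3
    refine Eq.trans (congrArg (fun a : Γ((V j).left, ⊤) => a • _) h3) ?_
    rw [zero_smul]
  · intro hj
    exact absurd (Finset.mem_univ j) hj

include h in
/-- Gluing on affine objects. -/
theorem exists_glue {ι : Type u} [Finite ι] (U : X.Etale) (hU : IsAffine U.left)
    (V : ι → X.Etale) (hV : ∀ i, IsAffine (V i).left) (g : ∀ i, V i ⟶ U)
    (hg : ∀ x : U.left, ∃ (i : ι) (v : (V i).left), (g i).left v = x)
    (x : ∀ i, P.obj (op (V i)))
    (hx : ∀ (i j : ι) (Z : X.Etale) (a : Z ⟶ V i) (b : Z ⟶ V j), IsAffine Z.left →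
      a ≫ g i = b ≫ g j → P.map a.op (x i) = P.map b.op (x j)) :
    ∃ y : P.obj (op U), ∀ i, P.map (g i).op y = x i := by
  have hS : IsAffine (EtSigma.sig V).left := by
    rw [EtSigma.sig_left]
    infer_instance
  obtain ⟨y, hy⟩ := exists_sig h V hV x
  have hmap : ∀ {A B C : X.Etale} (f : A ⟶ B) (k : B ⟶ C) (s : P.obj (op C)),
      P.map f.op (P.map k.op s) = P.map (f ≫ k).op s := by
    intro A B C f k s
    rw [op_comp, P.map_comp]
    rfl
  obtain ⟨z, hz⟩ := @Desc.EtDescent.exists_glue X P h.mod (fun {V W} g hV hW => h.isBC g hV hW)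
    _ _ (EtSigma.sdesc V g) hS hU ⟨fun x => by
      obtain ⟨i, v, hv⟩ := hg x
      refine ⟨(EtSigma.sin V i).left v, ?_⟩
      rw [← hv]
      exact congrArg (fun k => k.left v) (EtSigma.sin_sdesc V g i)⟩ y (by
    intro Z a b hZ hab
    refine eq_of_local h Z hZ _ _ fun z => ?_
    obtain ⟨i, v, hv⟩ := EtSigma.cover V (a.left z)
    obtain ⟨j, w, hw⟩ := EtSigma.cover V (b.left z)
    obtain ⟨Z₁, f₁, a₁, z₁, hfa, hz₁, -⟩ := EtSite.exists_pullback a (EtSigma.sin V i) z v hv.symm
    obtain ⟨Z₂, f₂, b₂, z₂, hfb, hz₂, -⟩ := EtSite.exists_pullback (f₁ ≫ b) (EtSigma.sin V j) z₁ w (by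
      rw [hw, ← hz₁]
      rfl)
    obtain ⟨Z₃, k, z₃, hZ₃, hz₃⟩ := IsBase.ex (Q := Aff X) Z₂ z₂
    refine ⟨Z₃, hZ₃, k ≫ f₂ ≫ f₁, z₃, ?_, ?_⟩
    · change f₁.left (f₂.left (k.left z₃)) = z
      rw [hz₃, hz₂, hz₁]
    · have e1 : (k ≫ f₂ ≫ f₁) ≫ a = (k ≫ f₂ ≫ a₁) ≫ EtSigma.sin V i := by
        simp only [Category.assoc, hfa]
      have e2 : (k ≫ f₂ ≫ f₁) ≫ b = (k ≫ b₂) ≫ EtSigma.sin V j := by
        have := congrArg (fun t => k ≫ t) hfb
        simpa only [Category.assoc] using this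
      rw [hmap, hmap, e1, e2, ← hmap, ← hmap _ (EtSigma.sin V j), hy, hy]
      refine hx i j Z₃ _ _ hZ₃ ?_
      calc (k ≫ f₂ ≫ a₁) ≫ g i = ((k ≫ f₂ ≫ a₁) ≫ EtSigma.sin V i) ≫ EtSigma.sdesc V g := by
            rw [Category.assoc _ (EtSigma.sin V i), EtSigma.sin_sdesc]
        _ = ((k ≫ f₂ ≫ f₁) ≫ a) ≫ EtSigma.sdesc V g := by rw [e1]
        _ = ((k ≫ f₂ ≫ f₁) ≫ b) ≫ EtSigma.sdesc V g := by
            rw [Category.assoc _ a, hab, ← Category.assoc]
        _ = (k ≫ b₂) ≫ g j := by
            rw [e2, Category.assoc _ (EtSigma.sin V j), EtSigma.sin_sdesc])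
  refine ⟨z, fun i => ?_⟩
  rw [← hy i, ← hz, hmap, EtSigma.sin_sdesc]

include h in
/-- The restriction of a quasi-coherent presheaf to affine objects is a sheaf. -/
theorem isSheaf_aff : Presheaf.IsSheaf ((Aff X).ι.inducedTopology X.smallEtaleTopology)
    ((Aff X).ι.op ⋙ P) := by
  rw [Presheaf.isSheaf_iff_isSheaf_forget _ _ (forget AddCommGrpCat.{u + 1}),
    isSheaf_iff_isSheaf_of_type]
  intro U R hR
  rw [Functor.mem_inducedTopology_iff_of_isCoverDense, EtSite.mem_iff] at hR
  have hmap : ∀ {A B C : X.Etale} (f : A ⟶ B) (k : B ⟶ C) (s : P.obj (op C)),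
      P.map f.op (P.map k.op s) = P.map (f ≫ k).op s := by
    intro A B C f k s
    rw [op_comp, P.map_comp]
    rfl
  -- affine objects in the sieve through every point
  have h1 : ∀ x : U.obj.left, ∃ (Z : (Aff X).FullSubcategory) (f : Z ⟶ U) (_ : R f)
      (z : Z.obj.left), f.hom.left z = x := by
    intro x
    obtain ⟨V, g, v, ⟨Z, f, k, hf, hg⟩, hv⟩ := hR x
    refine ⟨Z, f, hf, k.left v, ?_⟩
    rw [← hv, hg]
    rfl
  choose Z f hf z hz using h1
  have hU : IsAffine U.obj.left := U.property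
  have hopen : ∀ x, IsOpen (Set.range (f x).hom.left) := fun x =>
    (Scheme.Hom.isOpenMap (f x).hom.left).isOpen_range
  obtain ⟨t, ht⟩ := isCompact_univ.elim_finite_subcover (fun x => Set.range (f x).hom.left) hopen
    (fun x _ => Set.mem_iUnion.2 ⟨x, z x, hz x⟩)
  rw [← Presieve.isSeparatedFor_and_exists_isAmalgamation_iff_isSheafFor]
  refine ⟨fun x s s' hs hs' => ?_, fun x hx => ?_⟩
  · refine eq_of_local h U.obj U.property s s' fun y => ⟨(Z y).obj, (Z y).property, (f y).hom,
      z y, hz y, ?_⟩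
    exact (hs (f y) (hf y)).trans (hs' (f y) (hf y)).symm
  · have hx' : ∀ {V V' : (Aff X).FullSubcategory} (k : V ⟶ U) (hk : R k) (l : V' ⟶ V)
        (m : V' ⟶ U) (hm : R m) (_ : l ≫ k = m), P.map l.hom.op (x k hk) = x m hm := by
      intro V V' k hk l m hm e
      subst e
      exact (Presieve.compatible_iff_sieveCompatible x).1 hx k l hk |>.symm
    obtain ⟨y, hy⟩ := exists_glue h (ι := t) U.obj U.property (fun i => (Z i).obj)
      (fun i => (Z i).property) (fun i => (f i).hom) (fun y => by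
        obtain ⟨i, hi⟩ := Set.mem_iUnion.1 (ht (Set.mem_univ y))
        obtain ⟨hi, w, hw⟩ := Set.mem_iUnion.1 hi
        exact ⟨⟨i, hi⟩, w, hw⟩) (fun i => x (f i) (hf i)) (by
      intro i j V a b hV hab
      let V' : (Aff X).FullSubcategory := ⟨V, hV⟩
      let a' : V' ⟶ Z i := ObjectProperty.homMk a
      let b' : V' ⟶ Z j := ObjectProperty.homMk b
      have e : a' ≫ f i = b' ≫ f j := ObjectProperty.hom_ext _ hab
      have h2 := hx' (f i) (hf i) a' (a' ≫ f i) (R.downward_closed (hf i) a') rfl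
      have h3 := hx' (f j) (hf j) b' (a' ≫ f i) (R.downward_closed (hf i) a') e.symm
      exact h2.trans h3.symm)
    refine ⟨y, fun V g hg => ?_⟩
    refine eq_of_local h V.obj V.property _ _ fun v => ?_
    obtain ⟨i, hi⟩ := Set.mem_iUnion.1 (ht (Set.mem_univ (g.hom.left v)))
    obtain ⟨hi, w, hw⟩ := Set.mem_iUnion.1 hi
    obtain ⟨T, a, b, t', hab, ht1, -⟩ := EtSite.exists_pullback g.hom (f i).hom v w hw.symm
    obtain ⟨T', k, t'', hT', ht''⟩ := IsBase.ex (Q := Aff X) T t'
    refine ⟨T', hT', k ≫ a, t'', ?_, ?_⟩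
    · change a.left (k.left t'') = v
      rw [ht'', ht1]
    · let V' : (Aff X).FullSubcategory := ⟨T', hT'⟩
      let a' : V' ⟶ V := ObjectProperty.homMk (k ≫ a)
      let b' : V' ⟶ Z i := ObjectProperty.homMk (k ≫ b)
      have e : b' ≫ f i = a' ≫ g := ObjectProperty.hom_ext _ (by
        change (k ≫ b) ≫ (f i).hom = (k ≫ a) ≫ g.hom
        rw [Category.assoc, Category.assoc, hab])
      have h2 := hx' g hg a' (a' ≫ g) (R.downward_closed hg a') rfl
      have h3 := hx' (f i) (hf i) b' (a' ≫ g) (R.downward_closed hg a') e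
      refine Eq.trans ?_ h2.symm
      refine Eq.trans ?_ h3
      have h4 := hy ⟨i, hi⟩
      change P.map (k ≫ a).op (P.map g.hom.op y) = P.map (k ≫ b).op (x (f i) (hf i))
      rw [← h4, hmap, hmap, Category.assoc, Category.assoc, hab]

include h in
/-- A quasi-coherent presheaf maps to an étale sheaf, bijectively on affine objects. -/
theorem exists_sheaf : ∃ (F : EtCoh.Ab X) (a : P ⟶ F.obj),
    ∀ U : X.Etale, IsAffine U.left → Function.Bijective (a.app (op U)) := by
  let G := (Aff X).ι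
  let P' : Sheaf (G.inducedTopology X.smallEtaleTopology) AddCommGrpCat.{u + 1} :=
    ⟨G.op ⋙ P, isSheaf_aff h⟩
  let e := G.sheafInducedTopologyEquivOfIsCoverDense X.smallEtaleTopology AddCommGrpCat.{u + 1}
  let F : EtCoh.Ab X := e.functor.obj P'
  let i : P' ≅ (G.sheafPushforwardContinuous AddCommGrpCat.{u + 1}
    (G.inducedTopology X.smallEtaleTopology) X.smallEtaleTopology).obj F := e.unitIso.app P'
  let i' : G.op ⋙ P ≅ G.op ⋙ F.obj := (sheafToPresheaf _ _).mapIso i
  obtain ⟨a, ha⟩ := exists_preHom (Aff X) (F := P) (G := F)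
    (fun U hU => (i'.hom.app (op (⟨U, hU⟩ : (Aff X).FullSubcategory))).hom) (by
      intro U V hU hV g s
      exact ConcreteCategory.congr_hom (i'.hom.naturality (ObjectProperty.homMk g :
        (⟨V, hV⟩ : (Aff X).FullSubcategory) ⟶ ⟨U, hU⟩).op) s)
  refine ⟨F, a, fun U hU => ?_⟩
  have h1 : ⇑(a.app (op U)) = ⇑(i'.hom.app (op (⟨U, hU⟩ : (Aff X).FullSubcategory))) :=
    funext fun s => ha U hU s
  rw [h1]
  exact ConcreteCategory.bijective_of_isIso (i'.hom.app _)

end sheaf

end K951.AffSheaf
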