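import Groth.Agent.Dix.K281.ClosedPush
import Groth.Agent.Dix.K281.ClsPull
import Groth.Agent.CurvesA.H1GmPicSurj
import Groth.Agent.Etrest.HPost
import Groth.Prelude.Def_Dix
import Groth.Agent.S2949
import Groth.Agent.S9549
import Groth.Agent.Sga5.SmoothField
import Groth.Agent.Lefpen.H705.ClosedPoint
import Groth.Agent.ShStab.K114.IdealTw
import Groth.Agent.Flat2F.HHSeq
import Groth.Agent.Dix.K876.NodeA

/-!
# The diagram chase for Brauer groups along a closed immersion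
-/

set_option autoImplicit false
set_option linter.unusedSectionVars false

universe u

open CategoryTheory CategoryTheory.Limits AlgebraicGeometry Opposite

namespace K951.Chase

open Groth.Agent Groth.Agent.Etrest.HPost

variable {Z X : Scheme.{u}} (i : Z ⟶ X) [IsClosedImmersion i]

/-- The short exact sequence of the kernel of `G_m → i_* G_m`. -/
noncomputable abbrev seq : ShortComplex (EtCoh.Ab X) :=
  ShortComplex.mk (kernel.ι (EtLim.GmPush i)) (EtLim.GmPush i) (kernel.condition _)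

theorem seq_shortExact : (seq i).ShortExact :=
  { exact := ShortComplex.exact_kernel _
    mono_f := inferInstanceAs (Mono (kernel.ι (EtLim.GmPush i)))
    epi_g := K281.ClosedGm.epi_gmPush i }

variable [PreservesFiniteLimits (EtCoh.pull i)]

theorem pull_eq (n : ℕ) (x : EtCoh.H X (EtCoh.Gm X) n) :
    EtLim.HGmPull i n x = EtLim.HofPush i (EtCoh.Gm Z) n (post (EtLim.GmPush i) n x) := rfl

theorem pull_zero_iff (n : ℕ) (x : EtCoh.H X (EtCoh.Gm X) n) :
    EtLim.HGmPull i n x = 0 ↔ post (EtLim.GmPush i) n x = 0 := by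
  rw [pull_eq]
  constructor
  · intro h
    exact (K281.ClosedPush.HofPush_bijective i (EtCoh.Gm Z) n).1 (h.trans (map_zero _).symm)
  · intro h
    rw [h, map_zero]

theorem main (l : ℕ) (h1 : Function.Surjective (EtLim.HGmPull i 1))
    (h2 : Function.Bijective (fun x : EtCoh.H X (kernel (EtLim.GmPush i)) 2 => l • x))
    (h3 : Function.Injective (fun x : EtCoh.H X (kernel (EtLim.GmPush i)) 3 => l • x)) :
    (∀ ξ : _root_.Dix.BrCoh X, (∃ e : ℕ, l ^ e • ξ = 0) → EtLim.HGmPull i 2 ξ = 0 → ξ = 0) ∧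
    (∀ η : _root_.Dix.BrCoh Z, (∃ e : ℕ, l ^ e • η = 0) →
      ∃ ξ : _root_.Dix.BrCoh X, (∃ e : ℕ, l ^ e • ξ = 0) ∧ EtLim.HGmPull i 2 ξ = η) := by
  have hS := seq_shortExact i
  -- surjectivity of `H¹(X, G_m) → H¹(X, i_* G_m)`
  have h1' : Function.Surjective (post (EtLim.GmPush i) 1) := by
    intro y
    obtain ⟨x, hx⟩ := h1 (EtLim.HofPush i (EtCoh.Gm Z) 1 y)
    exact ⟨x, (K281.ClosedPush.HofPush_bijective i (EtCoh.Gm Z) 1).1 hx⟩
  have hinj : Function.Injective (post (kernel.ι (EtLim.GmPush i)) 2) := by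
    rw [injective_iff_map_eq_zero]
    intro a ha
    obtain ⟨c, rfl⟩ := (exact_df hS 1 a).1 ha
    obtain ⟨d, rfl⟩ := h1' c
    exact (exact_gd hS 1 _).2 ⟨d, rfl⟩
  have hl2 : ∀ (e : ℕ) (g : EtCoh.H X (kernel (EtLim.GmPush i)) 2), l ^ e • g = 0 → g = 0 := by
    intro e
    induction e with
    | zero => intro g hg; rwa [pow_zero, one_smul] at hg
    | succ e ih =>
      intro g hg
      apply ih
      apply h2.1
      change l • (l ^ e • g) = l • 0
      rw [smul_zero, smul_smul, ← pow_succ', hg]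
  have hl3 : ∀ (e : ℕ) (g : EtCoh.H X (kernel (EtLim.GmPush i)) 3), l ^ e • g = 0 → g = 0 := by
    intro e
    induction e with
    | zero => intro g hg; rwa [pow_zero, one_smul] at hg
    | succ e ih =>
      intro g hg
      apply ih
      apply h3
      change l • (l ^ e • g) = l • 0
      rw [smul_zero, smul_smul, ← pow_succ', hg]
  have hs2 : ∀ (e : ℕ) (g : EtCoh.H X (kernel (EtLim.GmPush i)) 2), ∃ g', l ^ e • g' = g := by
    intro e
    induction e with
    | zero => intro g; exact ⟨g, by rw [pow_zero, one_smul]⟩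
    | succ e ih =>
      intro g
      obtain ⟨a, rfl⟩ := h2.2 g
      obtain ⟨b, rfl⟩ := ih a
      exact ⟨b, by change l ^ (e + 1) • b = l • (l ^ e • b); rw [smul_smul, ← pow_succ']⟩
  constructor
  · rintro ξ ⟨e, he⟩ hξ
    obtain ⟨g, rfl⟩ := (exact_fg hS 2 ξ).1 ((pull_zero_iff i 2 ξ).1 hξ)
    have h4 : l ^ e • g = 0 := by
      apply hinj
      rw [map_nsmul, map_zero]
      exact he
    rw [hl2 e g h4]
    exact map_zero _
  · rintro η ⟨e, he⟩
    obtain ⟨y, rfl⟩ := (K281.ClosedPush.HofPush_bijective i (EtCoh.Gm Z) 2).2 η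
    have hy : l ^ e • y = 0 := by
      apply (K281.ClosedPush.HofPush_bijective i (EtCoh.Gm Z) 2).1
      rw [map_nsmul, map_zero]
      exact he
    have h5 : conn hS 2 y = 0 := by
      apply hl3 e
      rw [← map_nsmul]
      exact (congrArg _ hy).trans (map_zero _)
    obtain ⟨ξ, hξ⟩ := (exact_gd hS 2 y).1 h5
    replace hξ : post (EtLim.GmPush i) 2 ξ = y := hξ
    have h6 : post (EtLim.GmPush i) 2 (l ^ e • ξ) = 0 := by
      rw [map_nsmul, hξ, hy]
    obtain ⟨g, hg⟩ := (exact_fg hS 2 (l ^ e • ξ)).1 h6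
    replace hg : post (kernel.ι (EtLim.GmPush i)) 2 g = l ^ e • ξ := hg
    obtain ⟨g', rfl⟩ := hs2 e g
    have h7 : post (EtLim.GmPush i) 2 (post (kernel.ι (EtLim.GmPush i)) 2 g') = 0 :=
      (exact_fg hS 2 _).2 ⟨g', rfl⟩
    refine ⟨ξ - post (kernel.ι (EtLim.GmPush i)) 2 g', ⟨e, ?_⟩, ?_⟩
    · rw [smul_sub, ← map_nsmul, hg, sub_self]
    · rw [pull_eq, map_sub, hξ, h7, sub_zero]

theorem surjective_one {Z X : Scheme.{u}} (i : Z ⟶ X) [PreservesFiniteLimits (EtCoh.pull i)]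
    (h : ∀ N : Z.Modules, PicF.IsInvertible N → ∃ M : X.Modules, PicF.IsInvertible M ∧
      Nonempty ((Scheme.Modules.pullback i).obj M ≅ N)) :
    Function.Surjective (EtLim.HGmPull i 1) := by
  intro y
  obtain ⟨N, hN, rfl⟩ := Groth.Agent.CurvesA.H1GmPic.exists_clsL_eq y
  obtain ⟨M, hM, ⟨e⟩⟩ := h N hN
  have hM' : PicF.IsInvertible ((Scheme.Modules.pullback i).obj M) :=
    Groth.Agent.Fdesc.LocGen.isInvertible_pullback i hM
  refine ⟨Groth.Agent.CurvesA.H1GmPic.clsL M hM, ?_⟩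
  rw [K281.ClsPull.HGmPull_clsL i M hM hM']
  exact Groth.Agent.CurvesA.H1GmPic.clsL_congr hM' hN e

theorem isInvertible_pow {A : X.Modules} (hA : PicF.IsInvertible A) (n : ℕ) :
    PicF.IsInvertible (CohB1.tensorPow A n) := by
  induction n with
  | zero => exact Fdesc.LocGen.isInvertible_structureModule
  | succ n ih => exact Fdesc.LocGen.isInvertible_tensorMod ih hA

theorem vanish {N : ℕ} {𝓘 : X.IdealSheafData} {L : X.Modules} (hL : ClSub.IsInverseOf L (ClSub.idealMod 𝓘))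
    (hsa : ∀ (q : ℕ) (Ω : X.Modules), ExtPow.IsExtPow q (Omega.sheaf (specULiftZIsTerminal.from X)) Ω →
      ∀ n i : ℕ, 1 ≤ n → i + q + 1 ≤ N →
        Subsingleton (Coh.HH X (CohB1.tensorMod (CohB1.tensorPow (ClSub.idealMod 𝓘) n) Ω) i))
    (m : ℕ) (hm : 1 ≤ m) (i : ℕ) (hi : i + 2 ≤ N) :
    Subsingleton (Coh.HH X ((DCoh.tensorBi.obj (CohB1.tensorPow (ClSub.idealMod 𝓘) m)).obj (ClSub.quotMod 𝓘)) i) := by
  have hI : PicF.IsInvertible (ClSub.idealMod 𝓘) := Fga.IntAdd.isInvertible_of_tensor hL.some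
  have hIm : PicF.IsInvertible (CohB1.tensorPow (ClSub.idealMod 𝓘) m) :=
    isInvertible_pow hI m
  have hv : ∀ n i : ℕ, 1 ≤ n → i + 1 ≤ N → Subsingleton (Coh.HH X (CohB1.tensorPow (ClSub.idealMod 𝓘) n) i) := by
    intro n i hn hi
    exact Groth.Agent.Flat2F.HHSeq.subsingleton_HH_of_iso (Ega2.Tens.runit _) i
      (hsa 0 _ (Sga67.TensorOps.isExtPow_zero _) n i hn (by omega))
  have hS := K114.IdealTw.shortExact_ideal 𝓘 hIm
  have h1 := Groth.Agent.Flat2F.HHSeq.subsingleton_HH_right hS i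
    (Groth.Agent.Flat2F.HHSeq.subsingleton_HH_of_iso (Ega2.Tens.lunit _).symm i (hv m i hm (by omega)))
    (Groth.Agent.Flat2F.HHSeq.subsingleton_HH_of_iso (Ega2.Tens.swap _ _) (i + 1) (hv (m + 1) (i + 1) (by omega) (by omega)))
  exact Groth.Agent.Flat2F.HHSeq.subsingleton_HH_of_iso (Ega2.Tens.swap _ _) i h1

theorem nodeC (k : Type u) [Field k]
    (X : Scheme.{u}) (f : X ⟶ Spec (CommRingCat.of k)) [IsProper f] (N : ℕ) (hN : 4 ≤ N)
    [SmoothOfRelativeDimension N f]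
    (𝓘 : X.IdealSheafData) (L : X.Modules) (hL : ClSub.IsInverseOf L (ClSub.idealMod 𝓘)) (hamp : CohB1.IsAmple L)
    (hsa : ∀ (q : ℕ) (Ω : X.Modules), ExtPow.IsExtPow q (Omega.sheaf (specULiftZIsTerminal.from X)) Ω →
      ∀ n i : ℕ, 1 ≤ n → i + q + 1 ≤ N →
        Subsingleton (Coh.HH X (CohB1.tensorMod (CohB1.tensorPow (ClSub.idealMod 𝓘) n) Ω) i))
    [PreservesFiniteLimits (EtCoh.pull 𝓘.subschemeι)] (l : ℕ)
    (h2 : Function.Bijective (fun x : EtCoh.H X (kernel (EtLim.GmPush 𝓘.subschemeι)) 2 => l • x))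
    (h3 : Function.Injective (fun x : EtCoh.H X (kernel (EtLim.GmPush 𝓘.subschemeι)) 3 => l • x)) :
    (∀ ξ : _root_.Dix.BrCoh X, (∃ e : ℕ, l ^ e • ξ = 0) → EtLim.HGmPull 𝓘.subschemeι 2 ξ = 0 → ξ = 0) ∧
    (∀ η : _root_.Dix.BrCoh 𝓘.subscheme, (∃ e : ℕ, l ^ e • η = 0) →
      ∃ ξ : _root_.Dix.BrCoh X, (∃ e : ℕ, l ^ e • ξ = 0) ∧ EtLim.HGmPull 𝓘.subschemeι 2 ξ = η) := by
  let : X.Over (Spec (CommRingCat.of k)) := ⟨f⟩
  have hp : IsProper (X ↘ (Spec (CommRingCat.of k))) := inferInstanceAs (IsProper f)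
  have hs : Smooth f := SmoothOfRelativeDimension.smooth N f
  refine main 𝓘.subschemeι l (surjective_one _ ?_) h2 h3
  refine (Groth.Agent.S2949.result k X 𝓘 L hL hamp (fun x hx => ?_) (fun m hm i hi => ?_) (fun x hx hxs => ?_)).2
  · apply Groth.Agent.Sga5.SmoothField.two_le_depth f
    rw [Groth.Agent.Lefpen.H705.ClosedPoint.ringKrullDim_stalk f N x hx]
    exact_mod_cast (by omega : 2 ≤ N)
  · exact vanish hL hsa m hm i (by omega)
  · have := Groth.Agent.Sga5.SmoothField.isRegularLocalRing_stalk f x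
    exact Groth.Agent.S9549.result (X.presheaf.stalk x)

end K951.Chase
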