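import Groth.Agent.Dix.K951.Les
import Groth.Agent.Dix.K888.NodeB
import Groth.Agent.S8914
import Groth.Agent.Sga5.SmoothField

/-!
# The core of the Brauer–Lefschetz theorem at `p`
-/

set_option autoImplicit false
set_option linter.unusedSectionVars false

universe u

open CategoryTheory CategoryTheory.Limits AlgebraicGeometry Opposite

namespace K951.Core

open K951.GoodBase K951.Shv

theorem congr_pow_one {X : Scheme.{u}} (𝓘 : X.IdealSheafData) (P : X.IdealSheafData → Prop)
    (h : P (𝓘 ^ 1)) : P 𝓘 := by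
  rwa [pow_one] at h

theorem core (k : Type u) [Field k] (p : ℕ) [Fact p.Prime] [CharP k p]
    (hF : (frobenius k p).Finite)
    (X : Scheme.{u}) (f : X ⟶ Spec (CommRingCat.of k)) [IsProper f] (N : ℕ) (hN : 4 ≤ N)
    [SmoothOfRelativeDimension N f]
    (𝓘 : X.IdealSheafData) (L : X.Modules) (hL : ClSub.IsInverseOf L (ClSub.idealMod 𝓘))
    (hsa : ∀ (q : ℕ) (Ω : X.Modules), ExtPow.IsExtPow q (Omega.sheaf (specULiftZIsTerminal.from X)) Ω → ∀ n i : ℕ, 1 ≤ n → i + q + 1 ≤ N → Subsingleton (Coh.HH X (CohB1.tensorMod (CohB1.tensorPow (ClSub.idealMod 𝓘) n) Ω) i))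
    (hA : ∀ n, 1 ≤ n → ∀ q ≤ 3, Subsingleton (EtCoh.H X (Groth.Agent.Etbc.H212.ASClosed.K (jn 𝓘 n)) q)) :
    Function.Bijective (fun x : EtCoh.H X (kernel (EtLim.GmPush 𝓘.subschemeι)) 2 => p • x) ∧
      Function.Injective (fun x : EtCoh.H X (kernel (EtLim.GmPush 𝓘.subschemeι)) 3 => p • x) := by
  have : Smooth f := SmoothOfRelativeDimension.smooth (n := N) f
  have hinv : PicF.IsInvertible (ClSub.idealMod 𝓘) :=
    (Groth.Agent.Dix.IdealModCartier.isInvertible_of_isInverseOf hL).2
  have hD : BlowUp.IsEffCartierIdeal 𝓘 := (Groth.Agent.S8914.result 𝓘).1 hinv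
  have := isBase_good hF f 𝓘 hD
  have h := K951.Les.main (X := X) (𝓘 := 𝓘) p
    (fun V x => Groth.Agent.Sga5.SmoothField.ufd_etale f V x) hA
    (fun q hq => K888.NodeB.nodeB k p X f N 𝓘 L hL hsa q (by omega))
  exact congr_pow_one 𝓘 (fun 𝓙 =>
    Function.Bijective (fun x : EtCoh.H X (kernel (EtLim.GmPush 𝓙.subschemeι)) 2 => p • x) ∧
      Function.Injective (fun x : EtCoh.H X (kernel (EtLim.GmPush 𝓙.subschemeι)) 3 => p • x)) h

/-! ### Torsion groups -/

section torsion

variable {A B : Type*} [AddCommGroup A] [AddCommGroup B] (f : A →+ B)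

theorem injective_of_prime (hA : ∀ a : A, ∃ n : ℕ, 0 < n ∧ n • a = 0)
    (h : ∀ l : ℕ, l.Prime → ∀ a : A, (∃ e : ℕ, l ^ e • a = 0) → f a = 0 → a = 0) :
    Function.Injective f := by
  rw [injective_iff_map_eq_zero]
  intro a ha
  have key : ∀ n : ℕ, 0 < n → ∀ a : A, n • a = 0 → f a = 0 → a = 0 := by
    intro n
    induction n using Nat.strong_induction_on with
    | _ n ih =>
      intro hn a hna ha
      by_cases h1 : n = 1
      · rwa [h1, one_smul] at hna
      · obtain ⟨l, hl, m, rfl⟩ := Nat.exists_prime_and_dvd h1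
        have h2 : m • a = 0 := by
          apply h l hl
          · exact ⟨1, by rw [pow_one, smul_smul]; exact hna⟩
          · rw [map_nsmul, ha, smul_zero]
        have hm : 0 < m := Nat.pos_of_ne_zero fun h0 => by
          rw [h0, mul_zero] at hn
          exact lt_irrefl _ hn
        refine ih m ?_ hm a h2 ha
        exact lt_mul_of_one_lt_left hm hl.one_lt
  obtain ⟨n, hn, hna⟩ := hA a
  exact key n hn a hna ha

theorem surjective_of_prime (hB : ∀ b : B, ∃ n : ℕ, 0 < n ∧ n • b = 0)
    (h : ∀ l : ℕ, l.Prime → ∀ b : B, (∃ e : ℕ, l ^ e • b = 0) → ∃ a : A, f a = b) :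
    Function.Surjective f := by
  have key : ∀ n : ℕ, 0 < n → ∀ b : B, n • b = 0 → ∃ a, f a = b := by
    intro n hn
    induction n using Nat.recOnPosPrimePosCoprime with
    | prime_pow l e hl he => exact fun b hb => h l hl b ⟨e, hb⟩
    | zero => exact absurd hn (lt_irrefl 0)
    | one =>
      intro b hb
      rw [one_smul] at hb
      exact ⟨0, by rw [map_zero, hb]⟩
    | coprime m m' hm hm' hcop ih ih' =>
      intro b hb
      obtain ⟨x, y, hxy⟩ := Nat.isCoprime_iff_coprime.2 hcop
      have h1 : m' • ((x * m) • b) = 0 := by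
        rw [← natCast_zsmul, smul_smul]
        have h2 : ((m' : ℤ) * (x * m)) = x * ((m * m' : ℕ) : ℤ) := by
          push_cast
          ring
        rw [h2, mul_smul, natCast_zsmul, hb, smul_zero]
      have h1' : m • ((y * m') • b) = 0 := by
        rw [← natCast_zsmul, smul_smul]
        have h2 : ((m : ℤ) * (y * m')) = y * ((m * m' : ℕ) : ℤ) := by
          push_cast
          ring
        rw [h2, mul_smul, natCast_zsmul, hb, smul_zero]
      obtain ⟨a, ha⟩ := ih' (by omega) _ h1
      obtain ⟨a', ha'⟩ := ih (by omega) _ h1'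
      refine ⟨a + a', ?_⟩
      rw [map_add, ha, ha', ← add_smul, hxy, one_smul]
  intro b
  obtain ⟨n, hn, hnb⟩ := hB b
  exact key n hn b hnb

end torsion

/-- Finite and algebraically closed fields are `F`-finite. -/
theorem frobenius_finite (k : Type u) [Field k] (p : ℕ) [Fact p.Prime] [CharP k p]
    (hk : Finite k ∨ IsAlgClosed k) : (frobenius k p).Finite := by
  apply RingHom.Finite.of_surjective
  rcases hk with hk | hk
  · exact Finite.surjective_of_injective (frobenius_inj k p)
  · intro x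
    obtain ⟨z, hz⟩ := IsAlgClosed.exists_pow_nat_eq x (Fact.out : p.Prime).pos
    exact ⟨z, hz⟩

end K951.Core
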