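import Groth.Agent.Dix.K951.Phi

/-!
# The first exact sequences

* `0 → K 1 → K p → Q → S → 0`;
* `0 → G 1 → G p → Q`;
* `0 → K (n+1) → K n → gr n → 0` and `0 → G (n+1) → G n → gr n → 0`, `n ≥ 1`.
-/

set_option autoImplicit false
set_option linter.unusedSectionVars false

universe u

open CategoryTheory CategoryTheory.Limits AlgebraicGeometry Opposite

namespace K951.Exact1

open Groth.Agent Groth.Agent.Etbase Groth.Agent.Etbc.H212.ASClosed Groth.Agent.Etbc.H212.KQC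
open K951.PChart K951.PForm K951.OmegaP K951.AffSheaf K951.Shv K951.GoodBase K951.Maps K951.PLog
open K951.Phi
open scoped K951.PChart

theorem mem_basicOpen_of_not (A : Scheme.{u}) (a : Γ(A, ⊤)) (v : A)
    (h : v ∉ A.basicOpen (1 + a)) : v ∈ A.basicOpen a := by
  rw [Scheme.mem_basicOpen_top] at h ⊢
  rw [map_add, map_one] at h
  have h1 := IsLocalRing.isUnit_or_isUnit_of_isUnit_add (R := A.presheaf.stalk v)
    (a := 1 + A.presheaf.germ ⊤ v trivial a) (b := - A.presheaf.germ ⊤ v trivial a) (by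
      rw [add_neg_cancel_right]
      exact isUnit_one)
  rcases h1 with h1 | h1
  · exact absurd h1 h
  · exact (IsUnit.neg_iff _).1 h1

theorem mem_basicOpen_of_dvd (A : Scheme.{u}) (a b : Γ(A, ⊤)) {v : A} (hab : a ∣ b)
    (h : v ∈ A.basicOpen b) : v ∈ A.basicOpen a := by
  obtain ⟨c, rfl⟩ := hab
  rw [Scheme.basicOpen_mul] at h
  exact h.1

variable {X : Scheme.{u}} (p : ℕ) [hp : Fact p.Prime] (𝓘 : X.IdealSheafData)
  [hG : IsBase (Good p 𝓘)]

section frob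

instance mono_frobK : Mono (frobK p 𝓘) := by
  refine mono_of_base (Good p 𝓘) _ fun U hU s hs => ?_
  have := hU.dom
  have h1 := val_frobK hU s
  rw [hs, val_zero] at h1
  apply val_injective
  rw [val_zero]
  exact pow_eq_zero_iff hp.out.ne_zero |>.1 h1.symm

theorem frobK_d : frobK p 𝓘 ≫ d p 𝓘 = 0 := by
  apply hom_ext (Good p 𝓘)
  intro U hU s
  have := hU.chr
  change (d p 𝓘).hom.app (op U) ((frobK p 𝓘).hom.app (op U) s) = 0
  rw [d_app hU, ← toS_zero (jn 𝓘 1) (Submodule.zero_mem _)]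
  apply toS_congr
  rw [val_frobK hU, Derivation.leibniz_pow, ← Nat.cast_smul_eq_nsmul Γ(U.left, ⊤),
    CharP.cast_eq_zero, zero_smul]

theorem exact_frobK_d : (ShortComplex.mk (frobK p 𝓘) (d p 𝓘) (frobK_d p 𝓘)).Exact := by
  refine exact_of_base (Good p 𝓘) _ _ _ fun U hU s hs x => ?_
  have := hU.chr
  obtain ⟨c⟩ := exists_chart hU.pb
  rw [d_app hU] at hs
  have h1 : KaehlerDifferential.D ZZ.{u} Γ(U.left, ⊤) (val (jn 𝓘 p) s) = 0 :=
    toS_injective (jn 𝓘 1) hU.aff (h' := Submodule.zero_mem _) (hs.trans (toS_zero _ _).symm)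
  obtain ⟨b, hb⟩ := c.exists_pow ((mem_J hU p).1 (val_mem _ s)) h1
  refine ⟨U, 𝟙 U, x, toK (jn 𝓘 1) (gt hU * b) ((mem_J1 hU).2 (dvd_mul_right _ _)), rfl, ?_⟩
  apply val_injective
  rw [val_frobK hU, val_toK, ← hb, op_id, CategoryTheory.Functor.map_id]
  rfl

instance mono_frobG : Mono (frobG p 𝓘) := by
  refine mono_of_base (Good p 𝓘) _ fun U hU s hs => ?_
  have := hU.dom
  have := hU.chr
  have h1 := uval_frobG hU s
  rw [hs, uval_zero] at h1
  apply uval_injective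
  rw [uval_zero]
  have h2 : ((uval (jn 𝓘 1) s : Γ(U.left, ⊤)) - 1) ^ p = 0 := by
    rw [sub_pow_char, one_pow, ← Units.val_pow_eq_pow_val, ← h1, Units.val_one, sub_self]
  have h3 := sub_eq_zero.1 ((pow_eq_zero_iff hp.out.ne_zero).1 h2)
  exact Units.ext h3

theorem frobG_dlog : frobG p 𝓘 ≫ dlogG p 𝓘 = 0 := by
  apply hom_ext (Good p 𝓘)
  intro U hU s
  have := hU.chr
  change (dlogG p 𝓘).hom.app (op U) ((frobG p 𝓘).hom.app (op U) s) = 0
  rw [dlogG_app hU, ← toS_zero (jn 𝓘 1) (Submodule.zero_mem _)]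
  apply toS_congr
  rw [uval_frobG hU, Units.val_pow_eq_pow_val, Derivation.leibniz_pow,
    ← Nat.cast_smul_eq_nsmul Γ(U.left, ⊤), CharP.cast_eq_zero, zero_smul, smul_zero]

theorem exact_frobG_dlog :
    (ShortComplex.mk (frobG p 𝓘) (dlogG p 𝓘) (frobG_dlog p 𝓘)).Exact := by
  refine exact_of_base (Good p 𝓘) _ _ _ fun U hU s hs x => ?_
  have := hU.chr
  obtain ⟨c⟩ := exists_chart hU.pb
  rw [dlogG_app hU] at hs
  have h1 : (↑(uval (jn 𝓘 p) s)⁻¹ : Γ(U.left, ⊤)) • KaehlerDifferential.D ZZ.{u} Γ(U.left, ⊤)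
      (uval (jn 𝓘 p) s : Γ(U.left, ⊤)) = 0 :=
    toS_injective (jn 𝓘 1) hU.aff (h' := Submodule.zero_mem _) (hs.trans (toS_zero _ _).symm)
  have h2 : KaehlerDifferential.D ZZ.{u} Γ(U.left, ⊤) ((uval (jn 𝓘 p) s : Γ(U.left, ⊤)) - 1) = 0 := by
    have h3 := congrArg (fun w => (uval (jn 𝓘 p) s : Γ(U.left, ⊤)) • w) h1
    simp only [smul_smul, Units.mul_inv, one_smul, smul_zero] at h3
    rw [map_sub, Derivation.map_one_eq_zero, sub_zero, h3]
  obtain ⟨b, hb⟩ := c.exists_pow ((mem_J hU p).1 (uval_mem _ s)) h2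
  have h4 : (uval (jn 𝓘 p) s : Γ(U.left, ⊤)) = (1 + gt hU * b) ^ p := by
    rw [add_pow_char, one_pow, ← hb]
    ring
  have h5 : IsUnit (1 + gt hU * b) := by
    have h6 : IsUnit ((1 + gt hU * b) ^ p) := by
      rw [← h4]
      exact (uval (jn 𝓘 p) s).isUnit
    exact (isUnit_pow_iff hp.out.ne_zero).1 h6
  obtain ⟨v, hv⟩ := h5
  refine ⟨U, 𝟙 U, x, toG (jn 𝓘 1) v (by
    rw [hv, mem_J1 hU, add_sub_cancel_left]
    exact dvd_mul_right _ _), rfl, ?_⟩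
  apply uval_injective
  rw [uval_frobG hU, uval_toG, op_id, CategoryTheory.Functor.map_id]
  apply Units.ext
  rw [Units.val_pow_eq_pow_val, hv, ← h4]
  rfl

end frob

section gr

variable {m n : ℕ}

instance mono_incK (h : m ≤ n) : Mono (incK p 𝓘 h) := by
  refine mono_of_base (Good p 𝓘) _ fun U hU s hs => ?_
  have h1 := val_incK h hU s
  rw [hs, val_zero] at h1
  apply val_injective
  rw [val_zero, h1]

instance mono_incG (h : m ≤ n) : Mono (incG p 𝓘 h) := by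
  refine mono_of_base (Good p 𝓘) _ fun U hU s hs => ?_
  have h1 := uval_incG h hU s
  rw [hs, uval_zero] at h1
  apply uval_injective
  rw [uval_zero, h1]

variable (n)

/-- The graded pieces. -/
noncomputable def gr : EtCoh.Ab X := cokernel (incK p 𝓘 (Nat.le_succ n))

/-- The projection to the graded piece. -/
noncomputable def prK : K (jn 𝓘 n) ⟶ gr p 𝓘 n := cokernel.π (incK p 𝓘 (Nat.le_succ n))

instance : Epi (prK p 𝓘 n) := inferInstanceAs (Epi (cokernel.π _))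

theorem incK_prK : incK p 𝓘 (Nat.le_succ n) ≫ prK p 𝓘 n = 0 := cokernel.condition _

theorem exact_incK_prK :
    (ShortComplex.mk (incK p 𝓘 (Nat.le_succ n)) (prK p 𝓘 n) (incK_prK p 𝓘 n)).Exact :=
  ShortComplex.exact_cokernel _

variable {n}

/-- `prK` kills the functions in the next step. -/
theorem prK_eq_zero {U : X.Etale} (hU : Good p 𝓘 U) (s : EtCoh.sect (K (jn 𝓘 n)) U)
    (h : val (jn 𝓘 n) s ∈ J (jn 𝓘 (n + 1)) U) : (prK p 𝓘 n).hom.app (op U) s = 0 := by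
  have h1 : (incK p 𝓘 (Nat.le_succ n)).hom.app (op U) (toK (jn 𝓘 (n + 1)) _ h) = s := by
    apply val_injective
    rw [val_incK _ hU, val_toK]
  rw [← h1]
  exact congrArg (fun k => k.hom.app (op U) (toK (jn 𝓘 (n + 1)) _ h)) (incK_prK p 𝓘 n)

theorem exists_prG (hn : 1 ≤ n) : ∃ f : GI (jn 𝓘 n) ⟶ gr p 𝓘 n,
    ∀ (U : X.Etale) (_ : Good p 𝓘 U) (s : EtCoh.sect (GI (jn 𝓘 n)) U),
      f.hom.app (op U) s = (prK p 𝓘 n).hom.app (op U)
        (toK (jn 𝓘 n) ((uval (jn 𝓘 n) s : Γ(U.left, ⊤)) - 1) (uval_mem _ s)) :=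
  exists_of_G (Good p 𝓘) (jn 𝓘 n) (gr p 𝓘 n)
    (fun U hU a ha => (prK p 𝓘 n).hom.app (op U) (toK (jn 𝓘 n) ((a : Γ(U.left, ⊤)) - 1) ha))
    (fun U hU a b ha hb hab => by
      rw [← sub_eq_zero, ← map_add, ← map_sub]
      apply prK_eq_zero p 𝓘 hU
      rw [val_sub, val_add, val_toK, val_toK, val_toK]
      have h1 : ((a * b : (Γ(U.left, ⊤))ˣ) : Γ(U.left, ⊤)) - 1 - (((a : Γ(U.left, ⊤)) - 1) +
        ((b : Γ(U.left, ⊤)) - 1)) = ((a : Γ(U.left, ⊤)) - 1) * ((b : Γ(U.left, ⊤)) - 1) := by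
        rw [Units.val_mul]
        ring
      rw [h1]
      rw [mem_J hU] at ha hb ⊢
      refine Dvd.dvd.trans ?_ (mul_dvd_mul ha hb)
      rw [← pow_add]
      exact pow_dvd_pow _ (by omega))
    (fun U V hU hV g a ha ha' => by
      rw [← nat_apply]
      congr 1
      apply val_injective
      rw [val_map, val_toK, val_toK, map_sub, map_one]
      rfl)

/-- The projection from `G n`. -/
noncomputable def prG (hn : 1 ≤ n) : GI (jn 𝓘 n) ⟶ gr p 𝓘 n := (exists_prG p 𝓘 hn).choose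

variable {p 𝓘}

theorem prG_app (hn : 1 ≤ n) {U : X.Etale} (hU : Good p 𝓘 U) (s : EtCoh.sect (GI (jn 𝓘 n)) U) :
    (prG p 𝓘 hn).hom.app (op U) s = (prK p 𝓘 n).hom.app (op U)
        (toK (jn 𝓘 n) ((uval (jn 𝓘 n) s : Γ(U.left, ⊤)) - 1) (uval_mem _ s)) :=
  (exists_prG p 𝓘 hn).choose_spec U hU s

variable (p 𝓘)

theorem incG_prG (hn : 1 ≤ n) : incG p 𝓘 (Nat.le_succ n) ≫ prG p 𝓘 hn = 0 := by
  apply hom_ext (Good p 𝓘)
  intro U hU s
  change (prG p 𝓘 hn).hom.app (op U) ((incG p 𝓘 (Nat.le_succ n)).hom.app (op U) s) = 0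
  rw [prG_app hn hU]
  apply prK_eq_zero p 𝓘 hU
  rw [val_toK, uval_incG _ hU]
  exact uval_mem _ s

theorem exact_incG_prG (hn : 1 ≤ n) :
    (ShortComplex.mk (incG p 𝓘 (Nat.le_succ n)) (prG p 𝓘 hn) (incG_prG p 𝓘 hn)).Exact := by
  refine exact_of_base (Good p 𝓘) _ _ _ fun U hU s hs x => ?_
  rw [prG_app hn hU] at hs
  obtain ⟨V, k, v, t, hV, hv, ht⟩ := lift_of_exact (Good p 𝓘) (exact_incK_prK p 𝓘 n) U _ hs x
  have h1 := congrArg (val (jn 𝓘 n)) ht
  rw [val_incK _ hV, val_map, val_toK] at h1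
  have h2 : ((Units.map k.left.appTop.hom.toMonoidHom (uval (jn 𝓘 n) s) : (Γ(V.left, ⊤))ˣ) :
      Γ(V.left, ⊤)) - 1 ∈ J (jn 𝓘 (n + 1)) V := by
    have h3 : ((Units.map k.left.appTop.hom.toMonoidHom (uval (jn 𝓘 n) s) : (Γ(V.left, ⊤))ˣ) :
      Γ(V.left, ⊤)) - 1 = val (jn 𝓘 (n + 1)) t := by
      rw [h1, map_sub, map_one]
      rfl
    rw [h3]
    exact val_mem _ t
  refine ⟨V, k, v, toG (jn 𝓘 (n + 1)) _ h2, hv, ?_⟩
  apply uval_injective
  rw [uval_incG _ hV, uval_toG, uval_map]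

instance epi_prG (hn : 1 ≤ n) : Epi (prG p 𝓘 hn) := by
  refine epi_of_base (Good p 𝓘) _ fun U hU s x => ?_
  obtain ⟨V, k, v, t, hV, rfl, ht⟩ := lift_of_epi (Good p 𝓘) (prK p 𝓘 n) U s x
  by_cases hv : v ∈ V.left.basicOpen (1 + val (jn 𝓘 n) t)
  · obtain ⟨W, l, w, hW, rfl, hu⟩ := exists_unit (Good p 𝓘) V _ v hv
    obtain ⟨a, ha⟩ := hu
    have hmem : (a : Γ(W.left, ⊤)) - 1 ∈ J (jn 𝓘 n) W := by
      rw [ha, map_add, map_one, add_sub_cancel_left]
      exact map_mem _ l (val_mem _ t)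
    refine ⟨W, l ≫ k, w, toG (jn 𝓘 n) a hmem, rfl, ?_⟩
    rw [prG_app hn hW, map_comp_apply, ← ht, ← nat_apply]
    congr 1
    apply val_injective
    rw [val_toK, uval_toG, val_map, ha, map_add, map_one, add_sub_cancel_left]
  · have hv' := mem_basicOpen_of_not _ _ _ hv
    obtain ⟨c, hc⟩ := (mem_J hV n).1 (val_mem _ t)
    have hv2 : v ∈ V.left.basicOpen (gt hV) := by
      refine mem_basicOpen_of_dvd _ _ _ ?_ hv'
      rw [hc]
      exact (dvd_pow_self _ (by omega)).trans (dvd_mul_right _ _)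
    obtain ⟨W, l, w, hW, rfl, hu⟩ := exists_unit (Good p 𝓘) V _ v hv2
    refine ⟨W, l ≫ k, w, 0, rfl, ?_⟩
    rw [map_zero, map_comp_apply, ← ht, ← nat_apply]
    refine (prK_eq_zero p 𝓘 hW _ ?_).symm
    have h1 : l.left.appTop (gt hV ^ (n + 1)) ∈ J (jn 𝓘 (n + 1)) W :=
      map_mem _ l ((mem_J hV _).2 dvd_rfl)
    rw [map_pow] at h1
    rw [Ideal.eq_top_of_isUnit_mem _ h1 (hu.pow _)]
    trivial

end gr

end K951.Exact1
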