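import Groth.Agent.Dix.K951.Exact1

/-!
# The second exact sequence

`G p → Q → S → 0` is exact, the second map being `phi`.
-/

set_option autoImplicit false
set_option linter.unusedSectionVars false

universe u

open CategoryTheory CategoryTheory.Limits AlgebraicGeometry Opposite

namespace K951.Exact2

open Groth.Agent Groth.Agent.Etbase Groth.Agent.Etbc.H212.ASClosed Groth.Agent.Etbc.H212.KQC
open K951.PChart K951.PForm K951.OmegaP K951.AffSheaf K951.Shv K951.GoodBase K951.Maps K951.PLog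
open K951.Phi K951.Exact1
open scoped K951.PChart

variable {X : Scheme.{u}}

theorem dlog_div {A : Type u} [CommRing A] (y z : Aˣ) {ω : Ω[A⁄ZZ.{u}]}
    (h : (z : A) • KaehlerDifferential.D ZZ.{u} A (y : A) -
      (y : A) • KaehlerDifferential.D ZZ.{u} A (z : A) = ((y : A) * (z : A)) • ω) :
    KaehlerDifferential.D ZZ.{u} A ((y * z⁻¹ : Aˣ) : A) = ((y * z⁻¹ : Aˣ) : A) • ω := by
  have h5 : (y : A) = ((y * z⁻¹ : Aˣ) : A) * z := by
    rw [Units.val_mul, mul_assoc, Units.inv_mul, mul_one]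
  generalize (y * z⁻¹ : Aˣ) = w at h5 ⊢
  rw [h5, Derivation.leibniz, smul_add, smul_smul, smul_smul, mul_comm (w : A) z,
    add_sub_cancel_left] at h
  have h6 := congrArg (fun x => (((z⁻¹ : Aˣ) : A) * ((z⁻¹ : Aˣ) : A)) • x) h
  simp only [smul_smul] at h6
  have h7 : ((z⁻¹ : Aˣ) : A) * ((z⁻¹ : Aˣ) : A) * ((z : A) * z) = 1 := by
    rw [mul_assoc, ← mul_assoc _ (z : A), Units.inv_mul, one_mul, Units.inv_mul]
  have h8 : ((z⁻¹ : Aˣ) : A) * ((z⁻¹ : Aˣ) : A) * ((z : A) * w * z) = w := by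
    rw [mul_right_comm (z : A), ← mul_assoc, h7, one_mul]
  rw [h7, one_smul, h8] at h6
  exact h6

theorem phi_solve' {p : ℕ} [hp : Fact p.Prime] {A : Type u} [CommRing A] [CharP A p] {n : ℕ}
    (z α β : Fin n → A) (t : A)
    (hβ : ∀ i, β i - (t ^ (p - 1) * z i ^ (p - 1)) * β i ^ p = α i) :
    ∃ γ : Ω[A⁄ZZ.{u}], K951.Phi.Rel p (∑ i, β i • KaehlerDifferential.D ZZ.{u} A (z i)) γ ∧
      t • (∑ i, β i • KaehlerDifferential.D ZZ.{u} A (z i)) - t ^ p • γ =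
        t • ∑ i, α i • KaehlerDifferential.D ZZ.{u} A (z i) := by
  obtain ⟨m, hm⟩ : ∃ m, p = m + 1 := ⟨p - 1, (Nat.succ_pred_eq_of_pos hp.out.pos).symm⟩
  have hpm : p - 1 = m := by omega
  refine ⟨∑ i, (β i ^ p * z i ^ (p - 1)) • KaehlerDifferential.D ZZ.{u} A (z i), ?_, ?_⟩
  · unfold K951.Phi.Rel
    rw [map_sum, map_sum]
    refine Finset.sum_congr rfl fun i _ => ?_
    rw [cinv_smul, K852.Cartier.cinv_D, K852.Cartier.smul_mk, smul_smul]
  · rw [Finset.smul_sum, Finset.smul_sum, Finset.smul_sum, ← Finset.sum_sub_distrib]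
    refine Finset.sum_congr rfl fun i _ => ?_
    rw [smul_smul, smul_smul, smul_smul, ← sub_smul]
    congr 1
    have h6 : t ^ p = t ^ m * t := by
      conv_lhs => rw [hm, pow_succ]
    rw [← hβ i, hpm, h6]
    ring

/-! ### Covers given by étale algebras -/

theorem exists_cover (V : X.Etale) (hV : IsAffine V.left) {R : Type u} [CommRing R]
    (f : Γ(V.left, ⊤) →+* R) (hf : f.Etale)
    (hs : Function.Surjective (PrimeSpectrum.comap f)) (v : V.left) :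
    ∃ (W : X.Etale) (g : W ⟶ V) (w : W.left) (e : R →+* Γ(W.left, ⊤)), g.left w = v ∧
      ∀ a, e (f a) = g.left.appTop a := by
  have hW : IsAffineOpen (⊤ : V.left.Opens) := isAffineOpen_top V.left
  let φ : Γ(V.left, ⊤) ⟶ CommRingCat.of R := CommRingCat.ofHom f
  have hφ : Etale (Spec.map φ) := by
    rw [HasRingHomProperty.Spec_iff (P := @Etale)]
    exact hf
  let m : Spec (CommRingCat.of R) ⟶ V.left := Spec.map φ ≫ hW.fromSpec
  have hm : Etale m := inferInstance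
  let W : X.Etale := Scheme.Etale.mk (m ≫ V.hom)
  let g : W ⟶ V := MorphismProperty.Over.homMk m rfl
  obtain ⟨y, hy⟩ : ∃ y, hW.fromSpec y = v := by
    have h2 : v ∈ Set.range hW.fromSpec := by
      rw [hW.range_fromSpec]
      trivial
    exact h2
  obtain ⟨z, hz⟩ := hs y
  refine ⟨W, g, z, (Scheme.ΓSpecIso (CommRingCat.of R)).inv.hom, ?_, ?_⟩
  · change (Spec.map φ ≫ hW.fromSpec) z = v
    rw [Scheme.Hom.comp_apply, ← hy]
    congr 1
  · intro a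
    change _ = (Spec.map φ ≫ hW.fromSpec).appTop a
    rw [Scheme.Hom.comp_appTop, CommRingCat.comp_apply]
    have h1 : hW.fromSpec.appTop = (Scheme.ΓSpecIso Γ(V.left, ⊤)).inv := by
      rw [Scheme.Hom.appTop, hW.fromSpec_app_of_le ⊤ le_top]
      simp
    rw [h1]
    have h2 := congr($(Scheme.ΓSpecIso_inv_naturality φ) (a : Γ(V.left, ⊤)))
    rw [CommRingCat.comp_apply, CommRingCat.comp_apply] at h2
    exact h2

/-- The prime ideal of a point of an affine scheme. -/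
theorem exists_prime (A : Scheme.{u}) [IsAffine A] (v : A)
    [UniqueFactorizationMonoid (A.presheaf.stalk v)] :
    ∃ (𝔭 : Ideal Γ(A, ⊤)) (_ : 𝔭.IsPrime), UniqueFactorizationMonoid (Localization.AtPrime 𝔭) ∧
      ∀ a : Γ(A, ⊤), a ∉ 𝔭 → v ∈ A.basicOpen a := by
  have hA : IsAffineOpen (⊤ : A.Opens) := isAffineOpen_top A
  let 𝔭 := hA.primeIdealOf ⟨v, trivial⟩
  have hloc := hA.isLocalization_stalk ⟨v, trivial⟩
  let : Algebra Γ(A, ⊤) (A.presheaf.stalk v) := (A.presheaf.germ ⊤ v trivial).hom.toAlgebra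
  have hloc' : IsLocalization.AtPrime (A.presheaf.stalk v) 𝔭.asIdeal := hloc
  let e : A.presheaf.stalk v ≃ₐ[Γ(A, ⊤)] Localization.AtPrime 𝔭.asIdeal :=
    IsLocalization.algEquiv 𝔭.asIdeal.primeCompl _ _
  refine ⟨𝔭.asIdeal, 𝔭.isPrime, MulEquiv.uniqueFactorizationMonoid e.toMulEquiv inferInstance, ?_⟩
  intro a ha
  rw [Scheme.mem_basicOpen_top]
  exact IsLocalization.map_units (M := 𝔭.asIdeal.primeCompl) (A.presheaf.stalk v) ⟨a, ha⟩

section

variable {p : ℕ} [hp : Fact p.Prime] {𝓘 : X.IdealSheafData} [hG : IsBase (Good p 𝓘)]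

theorem cl_eq_zero {U : X.Etale} (hU : Good p 𝓘 U) {θ : Ω[Γ(U.left, ⊤)⁄ZZ.{u}]}
    (h : θ ∈ JΩ (jn 𝓘 1) U) (a : Γ(U.left, ⊤))
    (ha : a ∈ J (jn 𝓘 p) U) (e : θ = KaehlerDifferential.D ZZ.{u} _ a) : cl p 𝓘 θ h = 0 := by
  rw [cl_eq_of_sub p 𝓘 hU h (Submodule.zero_mem _) a ha (by rw [sub_zero, e])]
  unfold cl
  rw [toS_zero, map_zero]

variable (p 𝓘)

theorem dlog_phi : dlogG p 𝓘 ≫ phi p 𝓘 = 0 := by
  apply hom_ext (Good p 𝓘)
  intro U hU s
  have := hU.chr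
  change (phi p 𝓘).hom.app (op U) ((dlogG p 𝓘).hom.app (op U) s) = 0
  obtain ⟨h, hh⟩ := (mem_J hU p).1 (uval_mem _ s)
  obtain ⟨η, γ, h1, h2, g, hg⟩ := phi_dlog (t := gt hU) (uval (jn 𝓘 p) s) (h := h) (by
    rw [← hh]
    ring)
  have ht : gt hU ∈ J (jn 𝓘 1) U := (mem_J1 hU).2 dvd_rfl
  rw [dlogG_app hU, toS_congr (jn 𝓘 1) h1 _ (smul_mem_JΩ ht η), phi_app hU ht h2]
  exact cl_eq_zero hU _ _ ((mem_J hU p).2 (dvd_mul_right _ g)) hg

variable {p 𝓘}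

omit hG in
theorem mapΩ_comp_apply {U V W : X.Etale} (g : V ⟶ U) (k : W ⟶ V)
    (ω : Ω[Γ(U.left, ⊤)⁄ZZ.{u}]) : mapΩ (k ≫ g) ω = mapΩ k (mapΩ g ω) :=
  DFunLike.congr_fun (mapΩ_comp g k) ω

/-- From a logarithmic form to a section of `G p`. -/
theorem exists_log {V : X.Etale} (hV : Good p 𝓘 V) (w : (Γ(V.left, ⊤))ˣ)
    {ω θ : Ω[Γ(V.left, ⊤)⁄ZZ.{u}]} (hω : ω = gt hV ^ p • θ)
    (hw : KaehlerDifferential.D ZZ.{u} Γ(V.left, ⊤) (w : Γ(V.left, ⊤)) = (w : Γ(V.left, ⊤)) • ω)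
    (v : V.left) : ∃ (W : X.Etale) (l : W ⟶ V) (w0 : W.left) (u : (Γ(W.left, ⊤))ˣ),
      Good p 𝓘 W ∧ l.left w0 = v ∧ (u : Γ(W.left, ⊤)) - 1 ∈ J (jn 𝓘 p) W ∧
        KaehlerDifferential.D ZZ.{u} Γ(W.left, ⊤) (u : Γ(W.left, ⊤)) =
          (u : Γ(W.left, ⊤)) • mapΩ l ω := by
  have := hV.chr
  obtain ⟨c⟩ := exists_chart hV.pb
  have hdvd : ∀ i, gt hV ^ p ∣ c.D i (w : Γ(V.left, ⊤)) := by
    intro i
    rw [c.D_apply, hw, hω, map_smul, map_smul, smul_eq_mul, smul_eq_mul, mul_left_comm]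
    exact dvd_mul_right _ _
  obtain ⟨a, b, hab⟩ := c.exists_of_dvd hdvd
  by_cases hv : v ∈ V.left.basicOpen (gt hV)
  · obtain ⟨W, l, w0, hW, hl, hu⟩ := exists_unit (Good p 𝓘) V _ v hv
    have h1 : l.left.appTop (gt hV ^ p) ∈ J (jn 𝓘 p) W := map_mem _ l ((mem_J hV _).2 dvd_rfl)
    rw [map_pow] at h1
    refine ⟨W, l, w0, Units.map l.left.appTop.hom.toMonoidHom w, hW, hl, ?_, ?_⟩
    · rw [Ideal.eq_top_of_isUnit_mem _ h1 (hu.pow _)]
      trivial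
    · have h2 := congrArg (mapΩ l) hw
      rw [mapΩ_D, mapΩ_smul] at h2
      exact h2
  · have hv2 : v ∈ V.left.basicOpen a := by
      by_contra hcon
      have h3 : v ∈ V.left.basicOpen (w : Γ(V.left, ⊤)) := by
        rw [Scheme.basicOpen_of_isUnit _ w.isUnit]
        trivial
      rw [Scheme.mem_basicOpen_top] at hv hcon h3
      rw [hab, map_add, map_mul, map_pow, map_pow] at h3
      rcases IsLocalRing.isUnit_or_isUnit_of_isUnit_add h3 with h4 | h4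
      · exact hcon ((isUnit_pow_iff hp.out.ne_zero).1 h4)
      · exact hv ((isUnit_pow_iff hp.out.ne_zero).1 (isUnit_of_mul_isUnit_left h4))
    obtain ⟨W, l, w0, hW, hl, hu⟩ := exists_unit (Good p 𝓘) V _ v hv2
    have := hW.chr
    obtain ⟨a', ha'⟩ := hu
    let w' : (Γ(W.left, ⊤))ˣ := Units.map l.left.appTop.hom.toMonoidHom w
    have hw' : (w' : Γ(W.left, ⊤)) = (a' : Γ(W.left, ⊤)) ^ p + l.left.appTop (gt hV) ^ p *
        l.left.appTop b := by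
      change l.left.appTop (w : Γ(V.left, ⊤)) = _
      rw [hab, map_add, map_mul, map_pow, map_pow, ha']
    have hDw : KaehlerDifferential.D ZZ.{u} Γ(W.left, ⊤) (w' : Γ(W.left, ⊤)) =
        (w' : Γ(W.left, ⊤)) • mapΩ l ω := by
      have h2 := congrArg (mapΩ l) hw
      rw [mapΩ_D, mapΩ_smul] at h2
      exact h2
    have hDa : KaehlerDifferential.D ZZ.{u} Γ(W.left, ⊤) (((a'⁻¹ : (Γ(W.left, ⊤))ˣ) : Γ(W.left, ⊤)) ^ p)
        = 0 := by
      rw [Derivation.leibniz_pow, ← Nat.cast_smul_eq_nsmul Γ(W.left, ⊤), CharP.cast_eq_zero,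
        zero_smul]
    refine ⟨W, l, w0, w' * (a'⁻¹) ^ p, hW, hl, ?_, ?_⟩
    · have h5 : ((w' * (a'⁻¹) ^ p : (Γ(W.left, ⊤))ˣ) : Γ(W.left, ⊤)) - 1 =
          l.left.appTop (gt hV) ^ p * (l.left.appTop b *
            ((a'⁻¹ : (Γ(W.left, ⊤))ˣ) : Γ(W.left, ⊤)) ^ p) := by
        rw [Units.val_mul, Units.val_pow_eq_pow_val, hw', add_mul, ← mul_pow, Units.mul_inv,
          one_pow]
        ring
      rw [h5]
      have h1 : l.left.appTop (gt hV ^ p) ∈ J (jn 𝓘 p) W := map_mem _ l ((mem_J hV _).2 dvd_rfl)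
      rw [map_pow] at h1
      exact Ideal.mul_mem_right _ _ h1
    · rw [Units.val_mul, Units.val_pow_eq_pow_val, Derivation.leibniz, hDa, smul_zero, zero_add,
        hDw, smul_smul, mul_comm]

variable (p 𝓘)

theorem exact_dlog_phi
    (hufd : ∀ (V : X.Etale) (x : V.left), UniqueFactorizationMonoid (V.left.presheaf.stalk x)) :
    (ShortComplex.mk (dlogG p 𝓘) (phi p 𝓘) (dlog_phi p 𝓘)).Exact := by
  refine exact_of_base (Good p 𝓘) _ _ _ fun U hU s hs x => ?_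
  have := hU.chr
  obtain ⟨ω, hω, rfl⟩ := exists_toS (jn 𝓘 1) hU.aff s
  obtain ⟨η, rfl⟩ := (mem_JΩ hU).1 hω
  obtain ⟨γ, hγ⟩ := exists_rel p η
  have ht : gt hU ∈ J (jn 𝓘 1) U := (mem_J1 hU).2 dvd_rfl
  rw [phi_app hU ht hγ] at hs
  obtain ⟨V, k, v, a, hV, hv, ha⟩ := lift_of_exact (Good p 𝓘) (exact_d_pi p 𝓘) U _ hs x
  have := hV.chr
  have := hV.dom
  have := hV.aff
  rw [d_app hV, toS_map] at ha
  have h1 := toS_injective (jn 𝓘 1) hV.aff ha
  rw [map_sub, mapΩ_smul, mapΩ_smul, map_pow] at h1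
  -- `t`
  have hJ : J (jn 𝓘 p) V = Ideal.span {k.left.appTop (gt hU) ^ p} := by
    rw [← map_J (jn 𝓘 p) k hV.aff hU.aff, J_eq hU]
    exact map_span_pow _ _ _
  have h2 := val_mem (jn 𝓘 p) a
  rw [hJ, Ideal.mem_span_singleton] at h2
  obtain ⟨g, hg⟩ := h2
  rw [hg] at h1
  obtain ⟨c⟩ := exists_chart hV.pb
  obtain ⟨⟨θ, hθ⟩, hlog⟩ := exists_dlog_of_phi c (rel_map p k hγ) h1.symm
  have := hufd V v
  obtain ⟨𝔭, _, _, h𝔭⟩ := exists_prime V.left v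
  obtain ⟨y, z, hy, hz, hyz⟩ := hlog 𝔭
  have hyz' : v ∈ V.left.basicOpen (y * z) := by
    rw [Scheme.basicOpen_mul]
    exact ⟨h𝔭 y hy, h𝔭 z hz⟩
  obtain ⟨W, l, w0, hW, hl, hu⟩ := exists_unit (Good p 𝓘) V _ v hyz'
  rw [map_mul, IsUnit.mul_iff] at hu
  obtain ⟨⟨y', hy'⟩, ⟨z', hz'⟩⟩ := hu
  have := hW.chr
  -- the form on `W`
  let ω' := mapΩ (l ≫ k) (gt hU • η)
  have hω' : ω' = mapΩ l (k.left.appTop (gt hU) • mapΩ k η) := by
    change mapΩ (l ≫ k) (gt hU • η) = _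
    rw [mapΩ_comp_apply, mapΩ_smul]
  have h3 := congrArg (mapΩ l) hyz
  rw [map_sub, mapΩ_smul, mapΩ_smul, mapΩ_D, mapΩ_D, mapΩ_smul, map_mul, ← hω', ← hy', ← hz'] at h3
  -- the unit
  have h4 := dlog_div y' z' h3
  -- divisibility
  have h9 : ∃ θ' : Ω[Γ(W.left, ⊤)⁄ZZ.{u}], ω' = gt hW ^ p • θ' := by
    have h10 : l.left.appTop (k.left.appTop (gt hU) ^ p) ∈ J (jn 𝓘 p) W :=
      map_mem _ l (by rw [hJ]; exact Ideal.mem_span_singleton_self _)
    obtain ⟨e, he⟩ := (mem_J hW p).1 h10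
    refine ⟨e • mapΩ l θ, ?_⟩
    rw [hω', hθ, mapΩ_smul, he, smul_smul]
  obtain ⟨θ', hθ'⟩ := h9
  obtain ⟨W', l', w', u, hW', hw', hu1, hu2⟩ := exists_log hW _ hθ' h4 w0
  refine ⟨W', l' ≫ l ≫ k, w', toG (jn 𝓘 p) u hu1, ?_, ?_⟩
  · change k.left (l.left (l'.left w')) = x
    rw [hw', hl, hv]
  · rw [dlogG_app hW', toS_map]
    apply toS_congr
    rw [uval_toG, hu2, smul_smul, Units.inv_mul, one_smul]
    exact (mapΩ_comp_apply (l ≫ k) l' _).symm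

instance epi_phi : Epi (phi p 𝓘) := by
  refine epi_of_base (Good p 𝓘) _ fun U _ s x => ?_
  obtain ⟨V, k, v, s', hV, rfl, hs'⟩ := lift_of_epi (Good p 𝓘) (pi p 𝓘) U s x
  have := hV.chr
  obtain ⟨ω, hω, rfl⟩ := exists_toS (jn 𝓘 1) hV.aff s'
  obtain ⟨θ, rfl⟩ := (mem_JΩ hV).1 hω
  have ht : gt hV ∈ J (jn 𝓘 1) V := (mem_J1 hV).2 dvd_rfl
  obtain ⟨c⟩ := exists_chart hV.pb
  obtain ⟨R, _, f, β, hf, hsurj, hβ⟩ := exists_as (p := p) (CharP.cast_eq_zero Γ(V.left, ⊤) p) c.n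
    (fun i => gt hV ^ (p - 1) * c.z i ^ (p - 1)) (fun i => c.b.repr θ i)
  obtain ⟨W0, g0, w0, e, hw0, he⟩ := exists_cover V hV.aff f hf hsurj v
  obtain ⟨W, g1, w, hW, hw⟩ := IsBase.ex (Q := Good p 𝓘) W0 w0
  have := hW.chr
  let g : W ⟶ V := g1 ≫ g0
  have hg : ∀ a, g.left.appTop a = g1.left.appTop (g0.left.appTop a) := fun a => by
    change (g1.left ≫ g0.left).appTop a = _
    rw [Scheme.Hom.comp_appTop]
    rfl
  obtain ⟨γ, hγ, hγ'⟩ := phi_solve' (p := p) (fun i => g.left.appTop (c.z i))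
    (fun i => g.left.appTop (c.b.repr θ i)) (fun i => g1.left.appTop (e (β i)))
    (g.left.appTop (gt hV)) (fun i => by
      have h1 := congrArg (fun r => g1.left.appTop (e r)) (hβ i)
      simp only [map_sub, map_mul, map_pow, he] at h1
      rw [hg, hg, hg]
      exact h1)
  have hθ : mapΩ g θ = ∑ i, g.left.appTop (c.b.repr θ i) •
      KaehlerDifferential.D ZZ.{u} _ (g.left.appTop (c.z i)) := by
    conv_lhs => rw [← c.b.sum_repr θ]
    rw [map_sum]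
    refine Finset.sum_congr rfl fun i _ => ?_
    rw [mapΩ_smul, c.hb, mapΩ_D]
  refine ⟨W, g ≫ k, w, toS (jn 𝓘 1) (g.left.appTop (gt hV) •
    ∑ i, g1.left.appTop (e (β i)) • KaehlerDifferential.D ZZ.{u} _ (g.left.appTop (c.z i)))
    (smul_mem_JΩ (map_mem _ g ht) _), ?_, ?_⟩
  · change k.left (g0.left (g1.left w)) = k.left v
    rw [hw, hw0]
  · rw [phi_app hW (map_mem _ g ht) hγ, map_comp_apply, ← hs']
    have h2 := cl_map p 𝓘 g hω
    refine Eq.trans ?_ h2.symm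
    apply cl_congr
    rw [hγ', mapΩ_smul, hθ]

end

end K951.Exact2
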