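import Groth.Agent.Dix.K951.OmegaP
import Groth.Agent.S1535
import Groth.Agent.S2821
import Groth.Agent.S2260
import Groth.Agent.Sga4h.GmP2
import Groth.Agent.Etbase.ZarEt530
import Groth.Prelude.Def_BlowUp2
import Mathlib.RingTheory.RingHom.StandardSmooth

/-!
# Good objects of the small étale site of a smooth scheme with an effective Cartier divisor
-/

set_option autoImplicit false
set_option linter.unusedSectionVars false

universe u

open CategoryTheory CategoryTheory.Limits AlgebraicGeometry Opposite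

namespace K951.GoodBase

open Groth.Agent Groth.Agent.Etbase Groth.Agent.Etbc.H212.ASClosed
open K951.PChart K951.OmegaP K951.AffSheaf
open scoped K951.PChart

variable {X : Scheme.{u}}

/-- The inclusion of the `n`-th infinitesimal thickening. -/
noncomputable abbrev jn (𝓘 : X.IdealSheafData) (n : ℕ) : (𝓘 ^ n).subscheme ⟶ X :=
  (𝓘 ^ n).subschemeι

/-- Good objects: affine, integral, with a monomial `p`-basis, and such that the ideals of the
thickenings are generated by the powers of a function. -/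
structure Good (p : ℕ) (𝓘 : X.IdealSheafData) (U : X.Etale) : Prop where
  aff : IsAffine U.left
  dom : IsDomain Γ(U.left, ⊤)
  chr : CharP Γ(U.left, ⊤) p
  pb : HasPB p Γ(U.left, ⊤)
  gen : ∃ t : Γ(U.left, ⊤), t ≠ 0 ∧ ∀ n : ℕ, J (jn 𝓘 n) U = Ideal.span {t ^ n}

theorem mem_J_zar (𝓘 : X.IdealSheafData) (V : X.affineOpens) (a : Γ(X, V.1)) :
    (V.1).topIso.inv a ∈ J 𝓘.subschemeι ((EtZar.zarToEt X).obj V.1) ↔ a ∈ 𝓘.ideal V := by
  refine (Groth.Agent.Etbc.H212.KZar.res_eq_zero_iff 𝓘.subschemeι V.1 a).trans ?_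
  rw [← Scheme.IdealSheafData.ker_subschemeι_app]
  rfl

theorem J_zar (𝓘 : X.IdealSheafData) (V : X.affineOpens) (f : Γ(X, V.1))
    (hf : 𝓘.ideal V = Ideal.span {f}) (n : ℕ) :
    J (jn 𝓘 n) ((EtZar.zarToEt X).obj V.1) = Ideal.span {(V.1).topIso.inv f ^ n} := by
  have hn : (𝓘 ^ n).ideal V = Ideal.span {f ^ n} := by
    rw [Scheme.IdealSheafData.ideal_pow, Pi.pow_apply, hf, Ideal.span_singleton_pow]
  have hbij : Function.Bijective (V.1).topIso.inv := ConcreteCategory.bijective_of_isIso _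
  ext a
  obtain ⟨b, rfl⟩ := hbij.2 a
  refine (mem_J_zar (𝓘 ^ n) V b).trans ?_
  refine Iff.trans ?_ Ideal.mem_span_singleton.symm
  rw [hn, Ideal.mem_span_singleton, ← map_pow]
  constructor
  · rintro ⟨c, rfl⟩
    exact ⟨(V.1).topIso.inv c, map_mul _ _ _⟩
  · rintro ⟨c, hc⟩
    obtain ⟨d, rfl⟩ := hbij.2 c
    exact ⟨d, hbij.1 (hc.trans (map_mul _ _ _).symm)⟩

variable {k : Type u} [Field k] {p : ℕ} [Fact p.Prime] [CharP k p]

theorem map_span_pow {A B : Type*} [CommRing A] [CommRing B] (φ : A →+* B) (a : A) (n : ℕ) :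
    (Ideal.span {a ^ n}).map φ = Ideal.span {(φ a) ^ n} := by
  rw [Ideal.map_span, Set.image_singleton, map_pow]

theorem ne_zero_of_flat {A B : Type*} [CommRing A] [CommRing B] [Nontrivial B] (φ : A →+* B)
    (hφ : φ.Flat) {a : A} (ha : a ∈ nonZeroDivisors A) : φ a ≠ 0 := by
  intro h0
  let : Algebra A B := φ.toAlgebra
  have : Module.Flat A B := hφ
  have h3 : IsSMulRegular B a := IsSMulRegular.of_flat (IsSMulRegular.of_right_eq_zero_of_smul
    fun b hb => by
      rw [smul_eq_mul, mul_comm] at hb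
      exact (mem_nonZeroDivisors_iff_right.1 ha) b hb)
  have h4 : a • (1 : B) = a • (0 : B) := by
    rw [Algebra.smul_def, smul_zero, mul_one]
    exact h0
  exact one_ne_zero (h3 h4)

/-- Existence of good neighbourhoods. -/
theorem exists_good (hF : (frobenius k p).Finite) (f : X ⟶ Spec (CommRingCat.of k)) [Smooth f]
    (𝓘 : X.IdealSheafData) (hD : BlowUp.IsEffCartierIdeal 𝓘) (U : X.Etale) (x : U.left) :
    ∃ W : U.left.Opens, x ∈ W ∧ Good p 𝓘 (Desc.EtSheafCrit.opn U W) := by
  obtain ⟨V, hyV, f0, hf0, hV⟩ := hD (U.hom x)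
  let h : U.left ⟶ Spec (CommRingCat.of k) := U.hom ≫ f
  have hUet : Etale (U.hom : U.left ⟶ X) := U.prop
  have hh : Smooth h := inferInstanceAs (Smooth (U.hom ≫ f))
  obtain ⟨S0, hS0, W0, hW0, hx0, e0, hss⟩ := Smooth.exists_isStandardSmooth h x
  -- the base
  have hS0' : S0 = ⊤ := by
    ext s
    have h1 : s = h x := Subsingleton.elim _ _
    rw [h1]
    exact ⟨fun _ => trivial, fun _ => e0 hx0⟩
  subst hS0'
  let k' : Type u := Γ(Spec (CommRingCat.of k), ⊤)
  let ek : k ≃+* k' := (Scheme.ΓSpecIso (CommRingCat.of k)).symm.commRingCatIsoToRingEquiv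
  have hpk : (p : k') = 0 := by
    rw [← map_natCast ek.toRingHom p, CharP.cast_eq_zero, map_zero]
  have hk' : CharP k' p := charP_of_injective_ringHom ek.injective p
  have hpb : HasPB p k' := (hasPB_field k hF).ringEquiv ek
  obtain ⟨n, g, hg1, hg2⟩ := hss.exists_etale_mvPolynomial
  -- the structure of the local rings
  have hLN : IsLocallyNoetherian U.left := LocallyOfFiniteType.isLocallyNoetherian h
  have hreg : IsRegularLocalRing (U.left.presheaf.stalk x) := by
    let : U.left.Over (Spec (CommRingCat.of k)) := ⟨h⟩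
    have : Smooth (U.left ↘ (Spec (CommRingCat.of k))) := hh
    exact Groth.Agent.S1535.result k U.left x
  have hdom : IsDomain (U.left.presheaf.stalk x) := (Groth.Agent.S2821.result _).1
  obtain ⟨W1, hxW1, hW1⟩ := Groth.Agent.S2260.result U.left x
  obtain ⟨r, hr1, hr2⟩ := hW0.exists_basicOpen_le (V := W1 ⊓ U.hom ⁻¹ᵁ V.1) ⟨x, hxW1, hyV⟩ hx0
  let W : U.left.Opens := U.left.basicOpen r
  have hW : IsAffineOpen W := hW0.basicOpen r
  refine ⟨W, hr2, ?_⟩
  have hne : Nonempty (W : Scheme.{u}) := ⟨⟨x, hr2⟩⟩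
  have hint : IsIntegral (W : Scheme.{u}) :=
    isIntegral_of_isOpenImmersion (U.left.homOfLE (hr1.trans inf_le_left))
  have hdomW : IsDomain Γ((W : Scheme.{u}), ⊤) := inferInstance
  let eW : Γ(U.left, W) ≃+* Γ((W : Scheme.{u}), ⊤) := W.topIso.symm.commRingCatIsoToRingEquiv
  have hdomW' : IsDomain Γ(U.left, W) := eW.toMulEquiv.isDomain _
  -- the `p`-basis
  have hchW0 : ∀ (T : U.left.Opens) (e : T ≤ h ⁻¹ᵁ ⊤), (p : Γ(U.left, T)) = 0 := by
    intro T e
    rw [← map_natCast (h.appLE ⊤ T e).hom p, hpk, map_zero]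
  have hnt0 : Nontrivial Γ(U.left, W0) := by
    by_contra hcon
    rw [not_nontrivial_iff_subsingleton] at hcon
    have h1 : (1 : Γ(U.left, W)) = 0 := by
      rw [← map_one (U.left.presheaf.map (homOfLE (U.left.basicOpen_le r)).op).hom,
        Subsingleton.elim (1 : Γ(U.left, W0)) 0, map_zero]
    exact one_ne_zero h1
  have hchar0 : CharP Γ(U.left, W0) p := by
    refine ⟨fun m => ?_⟩
    have hpp := (Fact.out : p.Prime)
    constructor
    · intro hm
      by_contra hdvd
      have hcop : Nat.Coprime p m := (Nat.Prime.coprime_iff_not_dvd hpp).2 hdvd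
      have h2 := Nat.isCoprime_iff_coprime.2 hcop
      obtain ⟨a, b, hab⟩ := h2
      have h3 := congrArg (fun z : ℤ => (z : Γ(U.left, W0))) hab
      push_cast at h3
      rw [hm, hchW0 W0 (fun _ _ => trivial), mul_zero, mul_zero, add_zero] at h3
      exact zero_ne_one h3
    · rintro ⟨c, rfl⟩
      rw [Nat.cast_mul, hchW0 W0 (fun _ _ => trivial), zero_mul]
  have hcharP : CharP (MvPolynomial (Fin n) k') p := inferInstance
  have hpb0 : HasPB p Γ(U.left, W0) := (hpb.mvPolynomial n).etale g hg2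
  have hetW : (U.left.presheaf.map (homOfLE (U.left.basicOpen_le r)).op).hom.Etale := by
    have hloc := hW0.isLocalization_basicOpen r
    let : Algebra Γ(U.left, W0) Γ(U.left, W) :=
      (U.left.presheaf.map (homOfLE (U.left.basicOpen_le r)).op).hom.toAlgebra
    have : IsLocalization.Away r Γ(U.left, W) := hloc
    exact Algebra.Etale.of_isLocalizationAway r
  have hcharW : CharP Γ(U.left, W) p := by
    have hpp := (Fact.out : p.Prime)
    refine (CharP.charP_iff_prime_eq_zero hpp).2 (hchW0 W (fun _ _ => trivial))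
  have hpbW : HasPB p Γ(U.left, W) := hpb0.etale _ hetW
  have hpbW' : HasPB p Γ((W : Scheme.{u}), ⊤) := hpbW.ringEquiv eW
  have hcharW' : CharP Γ((W : Scheme.{u}), ⊤) p := charP_of_injective_ringHom eW.injective p
  -- the ideal
  obtain ⟨m⟩ := ZarEt530.exists_hom (E := Desc.EtSheafCrit.opn U W) (W := V.1)
    (fun w => (hr1 w.2).2)
  have hVaff : IsAffine ((EtZar.zarToEt X).obj V.1).left := V.2
  have hWaff : IsAffine (Desc.EtSheafCrit.opn U W).left := hW
  refine ⟨hWaff, hdomW, hcharW', hpbW', m.left.appTop ((V.1).topIso.inv f0), ?_, fun n => ?_⟩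
  · -- a nonzerodivisor
    have hnt : Nontrivial Γ((Desc.EtSheafCrit.opn U W).left, ⊤) := hdomW.toNontrivial
    refine ne_zero_of_flat m.left.appTop.hom (Scheme.Hom.flat_appTop m.left) ?_
    have hbij : Function.Bijective (V.1).topIso.inv := ConcreteCategory.bijective_of_isIso _
    refine mem_nonZeroDivisors_iff_right.2 fun a ha => ?_
    obtain ⟨b, rfl⟩ := hbij.2 a
    have h2 : b * f0 = 0 := hbij.1 ((map_mul (V.1).topIso.inv.hom b f0).trans
      (ha.trans (map_zero _).symm))
    rw [(mem_nonZeroDivisors_iff_right.1 hf0) b h2, map_zero]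
    rfl
  · exact (map_J (jn 𝓘 n) m hWaff hVaff).symm.trans
      ((congrArg (Ideal.map _) (J_zar 𝓘 V f0 hV n)).trans (map_span_pow _ _ _))

theorem isBase_good (hF : (frobenius k p).Finite) (f : X ⟶ Spec (CommRingCat.of k)) [Smooth f]
    (𝓘 : X.IdealSheafData) (hD : BlowUp.IsEffCartierIdeal 𝓘) :
    IsBase (Good p 𝓘 : ObjectProperty X.Etale) :=
  isBase_of_opn _ fun U x => exists_good hF f 𝓘 hD U x

end K951.GoodBase
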