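import Groth.Agent.Dix.K951.Exact2
import Groth.Agent.Etrest.HPost

/-!
# Cohomology of the units congruent to one

If the cohomology of the powers of the ideal (degrees `≤ 3`) and of the forms with coefficients in
the ideal (degrees `≤ 2`) vanishes, then `p` is bijective on `H²(X, G 1)` and injective on
`H³(X, G 1)`.
-/

set_option autoImplicit false
set_option linter.unusedSectionVars false

universe u

open CategoryTheory CategoryTheory.Limits AlgebraicGeometry Opposite

namespace K951.Les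

open Groth.Agent Groth.Agent.Etbase Groth.Agent.Etbc.H212.ASClosed Groth.Agent.Etbc.H212.KQC
open Groth.Agent.Etrest.HPost
open K951.PChart K951.PForm K951.OmegaP K951.AffSheaf K951.Shv K951.GoodBase K951.Maps K951.PLog
open K951.Phi K951.Exact1 K951.Exact2

variable {X : Scheme.{u}}

section short

variable {S : ShortComplex (EtCoh.Ab X)} (hS : S.ShortExact)

include hS

theorem sub3 (n : ℕ) (h2 : Subsingleton (EtCoh.H X S.X₂ n))
    (h1 : Subsingleton (EtCoh.H X S.X₁ (n + 1))) : Subsingleton (EtCoh.H X S.X₃ n) := by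
  refine ⟨fun a b => ?_⟩
  have key : ∀ a : EtCoh.H X S.X₃ n, a = 0 := by
    intro a
    obtain ⟨c, rfl⟩ := (exact_gd hS n a).1 (Subsingleton.elim _ _)
    rw [Subsingleton.elim c 0, map_zero]
  rw [key a, key b]

theorem sub1 (n : ℕ) (h3 : Subsingleton (EtCoh.H X S.X₃ n))
    (h2 : Subsingleton (EtCoh.H X S.X₂ (n + 1))) : Subsingleton (EtCoh.H X S.X₁ (n + 1)) := by
  refine ⟨fun a b => ?_⟩
  have key : ∀ a : EtCoh.H X S.X₁ (n + 1), a = 0 := by
    intro a
    obtain ⟨c, rfl⟩ := (exact_df hS n a).1 (Subsingleton.elim _ _)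
    rw [Subsingleton.elim c 0, map_zero]
  rw [key a, key b]

theorem inj_f (n : ℕ) (h3 : Subsingleton (EtCoh.H X S.X₃ n)) :
    Function.Injective (post S.f (n + 1)) := by
  rw [injective_iff_map_eq_zero]
  intro a ha
  obtain ⟨c, rfl⟩ := (exact_df hS n a).1 ha
  rw [Subsingleton.elim c 0, map_zero]

theorem surj_f (n : ℕ) (h3 : Subsingleton (EtCoh.H X S.X₃ n)) :
    Function.Surjective (post S.f n) := by
  intro a
  exact (exact_fg hS n a).1 (Subsingleton.elim _ _)

end short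

section four

variable {A B C D : EtCoh.Ab X} (f : A ⟶ B) (g : B ⟶ C) (h : C ⟶ D) (w : f ≫ g = 0)
  (w' : g ≫ h = 0)

/-- The first half of a four term sequence. -/
noncomputable def left4 : ShortComplex (EtCoh.Ab X) :=
  ShortComplex.mk f (kernel.lift h g w') (by
    rw [← cancel_mono (kernel.ι h), Category.assoc, kernel.lift_ι, w, zero_comp])

/-- The second half of a four term sequence. -/
noncomputable def right4 : ShortComplex (EtCoh.Ab X) :=
  ShortComplex.mk (kernel.ι h) h (kernel.condition h)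

theorem right4_shortExact [Epi h] : (right4 h).ShortExact :=
  { exact := ShortComplex.exact_kernel _
    mono_f := inferInstanceAs (Mono (kernel.ι h))
    epi_g := inferInstanceAs (Epi h) }

variable {f g h}

theorem left4_shortExact [Mono f] (h1 : (ShortComplex.mk f g w).Exact)
    (h2 : (ShortComplex.mk g h w').Exact) : (left4 f g h w w').ShortExact :=
  { exact := by
      let φ : left4 f g h w w' ⟶ ShortComplex.mk f g w :=
        { τ₁ := 𝟙 A
          τ₂ := 𝟙 B
          τ₃ := kernel.ι h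
          comm₁₂ := by
            change 𝟙 A ≫ f = f ≫ 𝟙 B
            rw [Category.id_comp, Category.comp_id]
          comm₂₃ := by
            change 𝟙 B ≫ g = kernel.lift h g w' ≫ kernel.ι h
            rw [Category.id_comp, kernel.lift_ι] }
      have e1 : Epi φ.τ₁ := inferInstanceAs (Epi (𝟙 A))
      have e2 : IsIso φ.τ₂ := inferInstanceAs (IsIso (𝟙 B))
      have e3 : Mono φ.τ₃ := inferInstanceAs (Mono (kernel.ι h))
      exact (ShortComplex.exact_iff_of_epi_of_isIso_of_mono φ).2 h1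
    mono_f := inferInstanceAs (Mono f)
    epi_g := (ShortComplex.exact_iff_epi_kernel_lift _).1 h2 }

theorem vanish_last [Mono f] [Epi h] (h1 : (ShortComplex.mk f g w).Exact)
    (h2 : (ShortComplex.mk g h w').Exact) (hA : ∀ q ≤ 3, Subsingleton (EtCoh.H X A q))
    (hB : ∀ q ≤ 2, Subsingleton (EtCoh.H X B q)) (hC : ∀ q ≤ 1, Subsingleton (EtCoh.H X C q))
    (q : ℕ) (hq : q ≤ 1) : Subsingleton (EtCoh.H X D q) := by
  have hL := left4_shortExact w w' h1 h2
  have hR := right4_shortExact h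
  exact sub3 hR q (hC q hq) (sub3 hL (q + 1) (hB _ (by omega)) (hA _ (by omega)))

theorem bij_first [Mono f] [Epi h] (h1 : (ShortComplex.mk f g w).Exact)
    (h2 : (ShortComplex.mk g h w').Exact) (hC : ∀ q ≤ 2, Subsingleton (EtCoh.H X C q))
    (hD : ∀ q ≤ 1, Subsingleton (EtCoh.H X D q)) :
    Function.Bijective (post f 2) ∧ Function.Injective (post f 3) := by
  have hL := left4_shortExact w w' h1 h2
  have hR := right4_shortExact h
  have k1 : Subsingleton (EtCoh.H X (kernel h) 1) := sub1 hR 0 (hD 0 (by omega)) (hC 1 (by omega))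
  have k2 : Subsingleton (EtCoh.H X (kernel h) 2) := sub1 hR 1 (hD 1 (by omega)) (hC 2 (by omega))
  exact ⟨⟨inj_f hL 1 k1, surj_f hL 2 k2⟩, inj_f hL 2 k2⟩

end four

section main

variable (p : ℕ) [hp : Fact p.Prime] (𝓘 : X.IdealSheafData) [hG : IsBase (Good p 𝓘)]

theorem post_comp' {F G K : EtCoh.Ab X} (φ : F ⟶ G) (ψ : G ⟶ K) (n : ℕ) :
    (post (φ ≫ ψ) n : EtCoh.H X F n → EtCoh.H X K n) = post ψ n ∘ post φ n := by
  funext e
  exact (post_comp φ ψ n e).symm

theorem incG_comp {a b c : ℕ} (h : a ≤ b) (h' : b ≤ c) :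
    incG p 𝓘 h' ≫ incG p 𝓘 h = incG p 𝓘 (h.trans h') := by
  apply hom_ext (Good p 𝓘)
  intro U hU s
  apply uval_injective
  change uval (jn 𝓘 a) ((incG p 𝓘 h).hom.app (op U) ((incG p 𝓘 h').hom.app (op U) s)) = _
  rw [uval_incG _ hU, uval_incG _ hU, uval_incG _ hU]

theorem incG_self (a : ℕ) : incG p 𝓘 (le_refl a) = 𝟙 _ := by
  apply hom_ext (Good p 𝓘)
  intro U hU s
  apply uval_injective
  rw [uval_incG _ hU]
  rfl

variable {𝓘}

theorem grK_shortExact (n : ℕ) :
    (ShortComplex.mk (incK p 𝓘 (Nat.le_succ n)) (prK p 𝓘 n) (incK_prK p 𝓘 n)).ShortExact :=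
  { exact := exact_incK_prK p 𝓘 n
    mono_f := inferInstanceAs (Mono (incK p 𝓘 (Nat.le_succ n)))
    epi_g := inferInstanceAs (Epi (prK p 𝓘 n)) }

theorem grG_shortExact {n : ℕ} (hn : 1 ≤ n) :
    (ShortComplex.mk (incG p 𝓘 (Nat.le_succ n)) (prG p 𝓘 hn) (incG_prG p 𝓘 hn)).ShortExact :=
  { exact := exact_incG_prG p 𝓘 hn
    mono_f := inferInstanceAs (Mono (incG p 𝓘 (Nat.le_succ n)))
    epi_g := inferInstanceAs (Epi (prG p 𝓘 hn)) }

theorem inc_bij (hK : ∀ n, 1 ≤ n → ∀ q ≤ 3, Subsingleton (EtCoh.H X (K (jn 𝓘 n)) q))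
    (n : ℕ) (hn : 1 ≤ n) :
    Function.Bijective (post (incG p 𝓘 hn) 2) ∧ Function.Injective (post (incG p 𝓘 hn) 3) := by
  induction n, hn using Nat.le_induction with
  | base =>
    rw [incG_self]
    have h : ∀ q, (post (𝟙 (GI (jn 𝓘 1))) q : EtCoh.H X (GI (jn 𝓘 1)) q → _) = id := by
      intro q
      funext e
      change Abelian.Ext.comp e (Abelian.Ext.mk₀ (𝟙 _)) (add_zero q) = e
      rw [Abelian.Ext.comp_mk₀_id]
    rw [h, h]
    exact ⟨Function.bijective_id, Function.injective_id⟩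
  | succ n hn ih =>
    have hgr : ∀ q ≤ 2, Subsingleton (EtCoh.H X (gr p 𝓘 n) q) := fun q hq =>
      sub3 (grK_shortExact p n) q (hK n hn q (by omega)) (hK (n + 1) (by omega) (q + 1) (by omega))
    have h1 : Function.Bijective (post (incG p 𝓘 (Nat.le_succ n)) 2) :=
      ⟨inj_f (grG_shortExact p hn) 1 (hgr 1 (by omega)),
        surj_f (grG_shortExact p hn) 2 (hgr 2 (by omega))⟩
    have h2 : Function.Injective (post (incG p 𝓘 (Nat.le_succ n)) 3) :=
      inj_f (grG_shortExact p hn) 2 (hgr 2 (by omega))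
    rw [← incG_comp p 𝓘 hn (Nat.le_succ n), post_comp', post_comp']
    exact ⟨ih.1.comp h1, ih.2.comp h2⟩

theorem frobG_inc : frobG p 𝓘 ≫ incG p 𝓘 hp.out.one_lt.le = p • 𝟙 (GI (jn 𝓘 1)) := by
  apply hom_ext (Good p 𝓘)
  intro U hU s
  apply uval_injective
  have h1 : (p • 𝟙 (GI (jn 𝓘 1))).hom.app (op U) s = p • s := by
    have h2 : ∀ m : ℕ, (m • 𝟙 (GI (jn 𝓘 1))).hom.app (op U) s = m • s := by
      intro m
      induction m with
      | zero => rw [zero_smul, zero_smul]; rfl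
      | succ m ih =>
        rw [succ_nsmul, succ_nsmul, ← ih]
        rfl
    exact h2 p
  rw [h1, uval_nsmul]
  change uval (jn 𝓘 1) ((incG p 𝓘 hp.out.one_lt.le).hom.app (op U)
    ((frobG p 𝓘).hom.app (op U) s)) = _
  rw [uval_incG _ hU, uval_frobG hU]

theorem post_nsmul (F : EtCoh.Ab X) (m n : ℕ) (e : EtCoh.H X F n) :
    post (m • 𝟙 F) n e = m • e := by
  induction m with
  | zero =>
    rw [zero_smul, zero_smul, post_apply]
    have h : (Abelian.Ext.mk₀ (0 : F ⟶ F)) = 0 := Abelian.Ext.mk₀_zero F F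
    rw [h, Abelian.Ext.comp_zero]
  | succ m ih =>
    rw [succ_nsmul, succ_nsmul, ← ih, post_apply, post_apply, Abelian.Ext.mk₀_add,
      Abelian.Ext.comp_add, Abelian.Ext.comp_mk₀_id]

theorem main
    (hufd : ∀ (V : X.Etale) (x : V.left), UniqueFactorizationMonoid (V.left.presheaf.stalk x))
    (hK : ∀ n, 1 ≤ n → ∀ q ≤ 3, Subsingleton (EtCoh.H X (K (jn 𝓘 n)) q))
    (hQ : ∀ q ≤ 2, Subsingleton (EtCoh.H X (Q (jn 𝓘 1)) q)) :
    Function.Bijective (fun x : EtCoh.H X (GI (jn 𝓘 1)) 2 => p • x) ∧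
      Function.Injective (fun x : EtCoh.H X (GI (jn 𝓘 1)) 3 => p • x) := by
  have hS : ∀ q ≤ 1, Subsingleton (EtCoh.H X (S p 𝓘) q) :=
    vanish_last (frobK_d p 𝓘) (d_pi p 𝓘) (exact_frobK_d p 𝓘) (exact_d_pi p 𝓘)
      (hK 1 le_rfl) (fun q hq => hK p hp.out.one_lt.le q (by omega)) (fun q hq => hQ q (by omega))
  have h1 := bij_first (frobG_dlog p 𝓘) (dlog_phi p 𝓘) (exact_frobG_dlog p 𝓘)
    (exact_dlog_phi p 𝓘 hufd) hQ hS
  have h2 := inc_bij p hK p hp.out.one_lt.le
  have key : ∀ n, (fun x : EtCoh.H X (GI (jn 𝓘 1)) n => p • x) =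
      post (incG p 𝓘 hp.out.one_lt.le) n ∘ post (frobG p 𝓘) n := by
    intro n
    rw [← post_comp', frobG_inc]
    funext e
    exact (post_nsmul _ _ _ _).symm
  rw [key, key]
  exact ⟨h2.1.comp h1.1, h2.2.comp h1.2⟩

end main

end K951.Les
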