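import Groth.Agent.Dix.K951.Shv

/-!
# Morphisms between the sheaves of functions, units and forms, defined on the good base
-/

set_option autoImplicit false
set_option linter.unusedSectionVars false

universe u

open CategoryTheory CategoryTheory.Limits AlgebraicGeometry Opposite

namespace K951.Maps

open Groth.Agent Groth.Agent.Etbase Groth.Agent.Etbc.H212.ASClosed Groth.Agent.Etbc.H212.KQC
open K951.PChart K951.PForm K951.OmegaP K951.AffSheaf K951.Shv K951.GoodBase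
open scoped K951.PChart

variable {X : Scheme.{u}}

/-! ### Homomorphisms out of the three kinds of sheaves -/

section out

variable (𝓑 : ObjectProperty X.Etale) [hB : IsBase 𝓑] {Z : Scheme.{u}} (i : Z ⟶ X)

include hB in
theorem exists_of_K (F : EtCoh.Ab X)
    (φ : ∀ U : X.Etale, 𝓑 U → ∀ a : Γ(U.left, ⊤), a ∈ J i U → EtCoh.sect F U)
    (hadd : ∀ (U : X.Etale) (hU : 𝓑 U) (a b : Γ(U.left, ⊤)) (ha : a ∈ J i U) (hb : b ∈ J i U)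
      (hab : a + b ∈ J i U), φ U hU (a + b) hab = φ U hU a ha + φ U hU b hb)
    (hnat : ∀ (U V : X.Etale) (hU : 𝓑 U) (hV : 𝓑 V) (g : V ⟶ U) (a : Γ(U.left, ⊤)) (ha : a ∈ J i U)
      (ha' : g.left.appTop a ∈ J i V), φ V hV (g.left.appTop a) ha' = F.obj.map g.op (φ U hU a ha)) :
    ∃ f : K i ⟶ F, ∀ (U : X.Etale) (hU : 𝓑 U) (s : EtCoh.sect (K i) U),
      f.hom.app (op U) s = φ U hU (val i s) (val_mem i s) := by
  have hcongr : ∀ (U : X.Etale) (hU : 𝓑 U) (a b : Γ(U.left, ⊤)) (hab : a = b) (ha : a ∈ J i U)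
      (hb : b ∈ J i U), φ U hU a ha = φ U hU b hb := by
    rintro U hU a _ rfl _ _
    rfl
  refine exists_hom 𝓑 (F := K i) (G := F)
    (fun U hU => AddMonoidHom.mk' (fun s : EtCoh.sect (K i) U => φ U hU (val i s) (val_mem i s))
      fun s t => ?_) ?_
  · exact (hcongr U hU _ _ (val_add i s t) _ (by rw [← val_add]; exact val_mem i _)).trans
      (hadd U hU _ _ _ _ _)
  · intro U V hU hV g s
    exact (hcongr V hV _ _ (val_map i g s) _ (by rw [← val_map]; exact val_mem i _)).trans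
      (hnat U V hU hV g _ _ _)

include hB in
theorem exists_of_G (F : EtCoh.Ab X)
    (φ : ∀ U : X.Etale, 𝓑 U → ∀ a : (Γ(U.left, ⊤))ˣ, (a : Γ(U.left, ⊤)) - 1 ∈ J i U →
      EtCoh.sect F U)
    (hadd : ∀ (U : X.Etale) (hU : 𝓑 U) (a b : (Γ(U.left, ⊤))ˣ) (ha : (a : Γ(U.left, ⊤)) - 1 ∈ J i U)
      (hb : (b : Γ(U.left, ⊤)) - 1 ∈ J i U)
      (hab : ((a * b : (Γ(U.left, ⊤))ˣ) : Γ(U.left, ⊤)) - 1 ∈ J i U),
      φ U hU (a * b) hab = φ U hU a ha + φ U hU b hb)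
    (hnat : ∀ (U V : X.Etale) (hU : 𝓑 U) (hV : 𝓑 V) (g : V ⟶ U) (a : (Γ(U.left, ⊤))ˣ)
      (ha : (a : Γ(U.left, ⊤)) - 1 ∈ J i U)
      (ha' : ((Units.map g.left.appTop.hom.toMonoidHom a : (Γ(V.left, ⊤))ˣ) : Γ(V.left, ⊤)) - 1 ∈
        J i V), φ V hV (Units.map g.left.appTop.hom.toMonoidHom a) ha' =
          F.obj.map g.op (φ U hU a ha)) :
    ∃ f : GI i ⟶ F, ∀ (U : X.Etale) (hU : 𝓑 U) (s : EtCoh.sect (GI i) U),
      f.hom.app (op U) s = φ U hU (uval i s) (uval_mem i s) := by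
  have hcongr : ∀ (U : X.Etale) (hU : 𝓑 U) (a b : (Γ(U.left, ⊤))ˣ) (hab : a = b)
      (ha : (a : Γ(U.left, ⊤)) - 1 ∈ J i U)
      (hb : (b : Γ(U.left, ⊤)) - 1 ∈ J i U), φ U hU a ha = φ U hU b hb := by
    rintro U hU a _ rfl _ _
    rfl
  refine exists_hom 𝓑 (F := GI i) (G := F)
    (fun U hU => AddMonoidHom.mk' (fun s : EtCoh.sect (GI i) U => φ U hU (uval i s) (uval_mem i s))
      fun s t => ?_) ?_
  · exact (hcongr U hU _ _ (uval_add i s t) _ (by rw [← uval_add]; exact uval_mem i _)).trans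
      (hadd U hU _ _ _ _ _)
  · intro U V hU hV g s
    exact (hcongr V hV _ _ (uval_map i g s) _ (by rw [← uval_map]; exact uval_mem i _)).trans
      (hnat U V hU hV g _ _ _)

variable [IsClosedImmersion i]

/-- The section of `Q` given by a form. -/
noncomputable def toS {U : X.Etale} (ω : Ω[Γ(U.left, ⊤)⁄ZZ.{u}]) (h : ω ∈ JΩ i U) :
    EtCoh.sect (Q i) U := (toQ i).app (op U) (toP i ω h)

theorem toS_congr {U : X.Etale} {ω ω' : Ω[Γ(U.left, ⊤)⁄ZZ.{u}]} (e : ω = ω') (h : ω ∈ JΩ i U)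
    (h' : ω' ∈ JΩ i U) : toS i ω h = toS i ω' h' := by
  subst e
  rfl

theorem toS_add {U : X.Etale} {ω ω' : Ω[Γ(U.left, ⊤)⁄ZZ.{u}]} (h : ω ∈ JΩ i U)
    (h' : ω' ∈ JΩ i U) (h'' : ω + ω' ∈ JΩ i U) : toS i (ω + ω') h'' = toS i ω h + toS i ω' h' :=
  map_add ((toQ i).app (op U)).hom (toP i ω h) (toP i ω' h')

theorem toS_sub {U : X.Etale} {ω ω' : Ω[Γ(U.left, ⊤)⁄ZZ.{u}]} (h : ω ∈ JΩ i U)
    (h' : ω' ∈ JΩ i U) (h'' : ω - ω' ∈ JΩ i U) : toS i (ω - ω') h'' = toS i ω h - toS i ω' h' :=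
  map_sub ((toQ i).app (op U)).hom (toP i ω h) (toP i ω' h')

theorem toS_zero {U : X.Etale} (h : (0 : Ω[Γ(U.left, ⊤)⁄ZZ.{u}]) ∈ JΩ i U) : toS i 0 h = 0 :=
  map_zero ((toQ i).app (op U)).hom

theorem toS_map {U V : X.Etale} (g : V ⟶ U) {ω : Ω[Γ(U.left, ⊤)⁄ZZ.{u}]} (h : ω ∈ JΩ i U) :
    (Q i).obj.map g.op (toS i ω h) = toS i (mapΩ g ω) (mapΩ_mem i g h) :=
  (congrArg (fun φ => φ (toP i ω h)) ((toQ i).naturality g.op)).symm

theorem toS_injective {U : X.Etale} (hU : IsAffine U.left) {ω ω' : Ω[Γ(U.left, ⊤)⁄ZZ.{u}]}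
    {h : ω ∈ JΩ i U} {h' : ω' ∈ JΩ i U} (e : toS i ω h = toS i ω' h') : ω = ω' :=
  congrArg (fm i) ((toQ_bijective i U hU).1 e)

theorem exists_toS {U : X.Etale} (hU : IsAffine U.left) (s : EtCoh.sect (Q i) U) :
    ∃ (ω : Ω[Γ(U.left, ⊤)⁄ZZ.{u}]) (h : ω ∈ JΩ i U), toS i ω h = s := by
  obtain ⟨x, hx⟩ := (toQ_bijective i U hU).2 s
  exact ⟨fm i x, fm_mem i x, hx⟩

include hB in
theorem exists_of_Q (haff : ∀ U, 𝓑 U → IsAffine U.left) (F : EtCoh.Ab X)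
    (φ : ∀ U : X.Etale, 𝓑 U → ∀ ω : Ω[Γ(U.left, ⊤)⁄ZZ.{u}], ω ∈ JΩ i U → EtCoh.sect F U)
    (hadd : ∀ (U : X.Etale) (hU : 𝓑 U) (ω ω' : Ω[Γ(U.left, ⊤)⁄ZZ.{u}]) (h : ω ∈ JΩ i U)
      (h' : ω' ∈ JΩ i U) (h'' : ω + ω' ∈ JΩ i U), φ U hU (ω + ω') h'' = φ U hU ω h + φ U hU ω' h')
    (hnat : ∀ (U V : X.Etale) (hU : 𝓑 U) (hV : 𝓑 V) (g : V ⟶ U) (ω : Ω[Γ(U.left, ⊤)⁄ZZ.{u}])
      (h : ω ∈ JΩ i U) (h' : mapΩ g ω ∈ JΩ i V),
      φ V hV (mapΩ g ω) h' = F.obj.map g.op (φ U hU ω h)) :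
    ∃ f : Q i ⟶ F, ∀ (U : X.Etale) (hU : 𝓑 U) (ω : Ω[Γ(U.left, ⊤)⁄ZZ.{u}]) (h : ω ∈ JΩ i U),
      f.hom.app (op U) (toS i ω h) = φ U hU ω h := by
  have hcongr : ∀ (U : X.Etale) (hU : 𝓑 U) (a b : Ω[Γ(U.left, ⊤)⁄ZZ.{u}]) (hab : a = b)
      (ha : a ∈ JΩ i U) (hb : b ∈ JΩ i U), φ U hU a ha = φ U hU b hb := by
    rintro U hU a _ rfl _ _
    rfl
  let w : ∀ U : X.Etale, 𝓑 U → EtCoh.sect (Q i) U → Ω[Γ(U.left, ⊤)⁄ZZ.{u}] :=
    fun U hU s => (exists_toS i (haff U hU) s).choose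
  have hw : ∀ U hU s, w U hU s ∈ JΩ i U := fun U hU s =>
    (exists_toS i (haff U hU) s).choose_spec.choose
  have hw' : ∀ U hU s, toS i (w U hU s) (hw U hU s) = s := fun U hU s =>
    (exists_toS i (haff U hU) s).choose_spec.choose_spec
  have key := exists_hom 𝓑 (F := Q i) (G := F)
    (fun U hU => AddMonoidHom.mk' (fun s : EtCoh.sect (Q i) U => φ U hU (w U hU s) (hw U hU s))
      fun s t => ?_) ?_
  · obtain ⟨f, hf⟩ := key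
    refine ⟨f, fun U hU ω h => ?_⟩
    rw [hf U hU]
    refine hcongr U hU _ _ ?_ _ _
    exact toS_injective i (haff U hU) (hw' U hU _)
  · have e : w U hU (s + t) = w U hU s + w U hU t := by
      apply toS_injective i (haff U hU) (h := hw U hU _)
        (h' := Submodule.add_mem _ (hw U hU s) (hw U hU t))
      rw [hw' U hU, toS_add i (hw U hU s) (hw U hU t), hw' U hU, hw' U hU]
    exact (hcongr U hU _ _ e _ (Submodule.add_mem _ (hw U hU s) (hw U hU t))).trans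
      (hadd U hU _ _ _ _ _)
  · intro U V hU hV g s
    have e : w V hV ((Q i).obj.map g.op s) = mapΩ g (w U hU s) := by
      apply toS_injective i (haff V hV) (h := hw V hV _) (h' := mapΩ_mem i g (hw U hU s))
      rw [hw' V hV, ← toS_map i g (hw U hU s), hw' U hU]
    exact (hcongr V hV _ _ e _ (mapΩ_mem i g (hw U hU s))).trans (hnat U V hU hV g _ _ _)

end out

/-! ### The good base -/

section good

variable (p : ℕ) [hp : Fact p.Prime] (𝓘 : X.IdealSheafData)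

variable {p 𝓘}

/-- A generator of the ideal. -/
noncomputable def gt {U : X.Etale} (h : Good p 𝓘 U) : Γ(U.left, ⊤) := h.gen.choose

theorem gt_ne {U : X.Etale} (h : Good p 𝓘 U) : gt h ≠ 0 := h.gen.choose_spec.1

theorem J_eq {U : X.Etale} (h : Good p 𝓘 U) (n : ℕ) : J (jn 𝓘 n) U = Ideal.span {gt h ^ n} :=
  h.gen.choose_spec.2 n

theorem mem_J {U : X.Etale} (h : Good p 𝓘 U) (n : ℕ) {a : Γ(U.left, ⊤)} :
    a ∈ J (jn 𝓘 n) U ↔ gt h ^ n ∣ a := by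
  rw [J_eq h, Ideal.mem_span_singleton]

theorem mem_J1 {U : X.Etale} (h : Good p 𝓘 U) {a : Γ(U.left, ⊤)} :
    a ∈ J (jn 𝓘 1) U ↔ gt h ∣ a := by
  rw [mem_J h, pow_one]

theorem mem_JΩ {U : X.Etale} (h : Good p 𝓘 U) {ω : Ω[Γ(U.left, ⊤)⁄ZZ.{u}]} :
    ω ∈ JΩ (jn 𝓘 1) U ↔ ∃ η : Ω[Γ(U.left, ⊤)⁄ZZ.{u}], gt h • η = ω := by
  unfold JΩ
  rw [J_eq h, pow_one, Submodule.ideal_span_singleton_smul]
  constructor
  · intro hω
    obtain ⟨η, -, hη⟩ := (Submodule.mem_smul_pointwise_iff_exists _ _ _).1 hω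
    exact ⟨η, hη⟩
  · rintro ⟨η, hη⟩
    exact (Submodule.mem_smul_pointwise_iff_exists _ _ _).2 ⟨η, trivial, hη⟩

theorem smul_mem_JΩ {U : X.Etale} {t : Γ(U.left, ⊤)} (ht : t ∈ J (jn 𝓘 1) U)
    (η : Ω[Γ(U.left, ⊤)⁄ZZ.{u}]) : t • η ∈ JΩ (jn 𝓘 1) U :=
  Submodule.smul_mem_smul ht trivial

theorem pow_smul_mem_JΩ {U : X.Etale} {t : Γ(U.left, ⊤)} (ht : t ∈ J (jn 𝓘 1) U)
    (η : Ω[Γ(U.left, ⊤)⁄ZZ.{u}]) : t ^ p • η ∈ JΩ (jn 𝓘 1) U :=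
  Submodule.smul_mem_smul (Ideal.pow_mem_of_mem _ ht _ hp.out.pos) trivial

theorem J_le {U : X.Etale} (h : Good p 𝓘 U) {m n : ℕ} (hmn : m ≤ n) :
    J (jn 𝓘 n) U ≤ J (jn 𝓘 m) U := by
  intro a ha
  rw [mem_J h] at ha ⊢
  exact (pow_dvd_pow _ hmn).trans ha

theorem pow_mem_J {U : X.Etale} (h : Good p 𝓘 U) {a : Γ(U.left, ⊤)} (ha : a ∈ J (jn 𝓘 1) U)
    (n : ℕ) : a ^ n ∈ J (jn 𝓘 n) U := by
  rw [mem_J h]
  exact pow_dvd_pow_of_dvd ((mem_J1 h).1 ha) n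

theorem D_mem_JΩ {U : X.Etale} (h : Good p 𝓘 U) {a : Γ(U.left, ⊤)} (ha : a ∈ J (jn 𝓘 p) U) :
    KaehlerDifferential.D ZZ.{u} _ a ∈ JΩ (jn 𝓘 1) U := by
  have := h.chr
  obtain ⟨c, rfl⟩ := (mem_J h p).1 ha
  rw [← K852.Cartier.pow_smul_D]
  exact pow_smul_mem_JΩ ((mem_J1 h).2 dvd_rfl) _

theorem Dlog_mem_JΩ {U : X.Etale} (h : Good p 𝓘 U) {u : (Γ(U.left, ⊤))ˣ}
    (hu : (u : Γ(U.left, ⊤)) - 1 ∈ J (jn 𝓘 p) U) :
    (↑u⁻¹ : Γ(U.left, ⊤)) • KaehlerDifferential.D ZZ.{u} _ (u : Γ(U.left, ⊤)) ∈ JΩ (jn 𝓘 1) U := by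
  have h1 : KaehlerDifferential.D ZZ.{u} _ (u : Γ(U.left, ⊤)) =
      KaehlerDifferential.D ZZ.{u} _ ((u : Γ(U.left, ⊤)) - 1) := by
    rw [map_sub, Derivation.map_one_eq_zero, sub_zero]
  rw [h1]
  exact Submodule.smul_mem _ _ (D_mem_JΩ h hu)

end good

section maps

variable (p : ℕ) [hp : Fact p.Prime] (𝓘 : X.IdealSheafData) [hG : IsBase (Good p 𝓘)]

include hG in
theorem exists_incK {m n : ℕ} (hmn : m ≤ n) : ∃ f : K (jn 𝓘 n) ⟶ K (jn 𝓘 m),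
    ∀ (U : X.Etale) (_ : Good p 𝓘 U) (s : EtCoh.sect (K (jn 𝓘 n)) U),
      val (jn 𝓘 m) (f.hom.app (op U) s) = val (jn 𝓘 n) s := by
  obtain ⟨f, hf⟩ := exists_of_K (Good p 𝓘) (jn 𝓘 n) (K (jn 𝓘 m))
    (fun U hU a ha => toK (jn 𝓘 m) a (J_le hU hmn ha))
    (fun U hU a b ha hb hab => by
      apply val_injective
      rw [val_add, val_toK, val_toK, val_toK])
    (fun U V hU hV g a ha ha' => by
      apply val_injective
      rw [val_map, val_toK, val_toK])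
  exact ⟨f, fun U hU s => by rw [hf U hU, val_toK]⟩

include hG in
theorem exists_frobK : ∃ f : K (jn 𝓘 1) ⟶ K (jn 𝓘 p),
    ∀ (U : X.Etale) (_ : Good p 𝓘 U) (s : EtCoh.sect (K (jn 𝓘 1)) U),
      val (jn 𝓘 p) (f.hom.app (op U) s) = val (jn 𝓘 1) s ^ p := by
  obtain ⟨f, hf⟩ := exists_of_K (Good p 𝓘) (jn 𝓘 1) (K (jn 𝓘 p))
    (fun U hU a ha => toK (jn 𝓘 p) (a ^ p) (pow_mem_J hU ha p))
    (fun U hU a b ha hb hab => by
      have := hU.chr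
      apply val_injective
      rw [val_add, val_toK, val_toK, val_toK, add_pow_char])
    (fun U V hU hV g a ha ha' => by
      apply val_injective
      rw [val_map, val_toK, val_toK, map_pow])
  exact ⟨f, fun U hU s => by rw [hf U hU, val_toK]⟩

include hG in
theorem exists_d : ∃ f : K (jn 𝓘 p) ⟶ Q (jn 𝓘 1),
    ∀ (U : X.Etale) (hU : Good p 𝓘 U) (s : EtCoh.sect (K (jn 𝓘 p)) U),
      f.hom.app (op U) s = toS (jn 𝓘 1) (KaehlerDifferential.D ZZ.{u} _ (val (jn 𝓘 p) s))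
        (D_mem_JΩ hU (val_mem _ s)) :=
  exists_of_K (Good p 𝓘) (jn 𝓘 p) (Q (jn 𝓘 1))
    (fun U hU a ha => toS (jn 𝓘 1) (KaehlerDifferential.D ZZ.{u} _ a) (D_mem_JΩ hU ha))
    (fun U hU a b ha hb hab => by
      rw [← toS_add (jn 𝓘 1) _ _ (Submodule.add_mem _ (D_mem_JΩ hU ha) (D_mem_JΩ hU hb))]
      exact toS_congr _ (map_add _ _ _) _ _)
    (fun U V hU hV g a ha ha' => by
      rw [toS_map]
      exact toS_congr _ (mapΩ_D g a).symm _ _)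

/-- The inclusion `K n ⟶ K m`. -/
noncomputable def incK {m n : ℕ} (hmn : m ≤ n) : K (jn 𝓘 n) ⟶ K (jn 𝓘 m) :=
  (exists_incK p 𝓘 hmn).choose

/-- The Frobenius `K 1 ⟶ K p`. -/
noncomputable def frobK : K (jn 𝓘 1) ⟶ K (jn 𝓘 p) := (exists_frobK p 𝓘).choose

/-- The differential `K p ⟶ Q`. -/
noncomputable def d : K (jn 𝓘 p) ⟶ Q (jn 𝓘 1) := (exists_d p 𝓘).choose

variable {p 𝓘}

theorem val_incK {m n : ℕ} (hmn : m ≤ n) {U : X.Etale} (hU : Good p 𝓘 U)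
    (s : EtCoh.sect (K (jn 𝓘 n)) U) :
    val (jn 𝓘 m) ((incK p 𝓘 hmn).hom.app (op U) s) = val (jn 𝓘 n) s :=
  (exists_incK p 𝓘 hmn).choose_spec U hU s

theorem val_frobK {U : X.Etale} (hU : Good p 𝓘 U) (s : EtCoh.sect (K (jn 𝓘 1)) U) :
    val (jn 𝓘 p) ((frobK p 𝓘).hom.app (op U) s) = val (jn 𝓘 1) s ^ p :=
  (exists_frobK p 𝓘).choose_spec U hU s

theorem d_app {U : X.Etale} (hU : Good p 𝓘 U) (s : EtCoh.sect (K (jn 𝓘 p)) U) :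
    (d p 𝓘).hom.app (op U) s =
      toS (jn 𝓘 1) (KaehlerDifferential.D ZZ.{u} _ (val (jn 𝓘 p) s))
        (D_mem_JΩ hU (val_mem _ s)) :=
  (exists_d p 𝓘).choose_spec U hU s

variable (p 𝓘)

include hG in
theorem exists_incG {m n : ℕ} (hmn : m ≤ n) : ∃ f : GI (jn 𝓘 n) ⟶ GI (jn 𝓘 m),
    ∀ (U : X.Etale) (_ : Good p 𝓘 U) (s : EtCoh.sect (GI (jn 𝓘 n)) U),
      uval (jn 𝓘 m) (f.hom.app (op U) s) = uval (jn 𝓘 n) s := by
  obtain ⟨f, hf⟩ := exists_of_G (Good p 𝓘) (jn 𝓘 n) (GI (jn 𝓘 m))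
    (fun U hU a ha => toG (jn 𝓘 m) a (J_le hU hmn ha))
    (fun U hU a b ha hb hab => by
      apply uval_injective
      rw [uval_add, uval_toG, uval_toG, uval_toG])
    (fun U V hU hV g a ha ha' => by
      apply uval_injective
      rw [uval_map, uval_toG, uval_toG])
  exact ⟨f, fun U hU s => by rw [hf U hU, uval_toG]⟩

theorem pow_sub_one_mem {U : X.Etale} (hU : Good p 𝓘 U) (u : (Γ(U.left, ⊤))ˣ)
    (hu : (u : Γ(U.left, ⊤)) - 1 ∈ J (jn 𝓘 1) U) :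
    ((u ^ p : (Γ(U.left, ⊤))ˣ) : Γ(U.left, ⊤)) - 1 ∈ J (jn 𝓘 p) U := by
  have := hU.chr
  have h1 : ((u ^ p : (Γ(U.left, ⊤))ˣ) : Γ(U.left, ⊤)) - 1 = ((u : Γ(U.left, ⊤)) - 1) ^ p := by
    rw [sub_pow_char, one_pow, Units.val_pow_eq_pow_val]
  rw [h1]
  exact pow_mem_J hU hu p

include hG in
theorem exists_frobG : ∃ f : GI (jn 𝓘 1) ⟶ GI (jn 𝓘 p),
    ∀ (U : X.Etale) (_ : Good p 𝓘 U) (s : EtCoh.sect (GI (jn 𝓘 1)) U),
      uval (jn 𝓘 p) (f.hom.app (op U) s) = uval (jn 𝓘 1) s ^ p := by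
  obtain ⟨f, hf⟩ := exists_of_G (Good p 𝓘) (jn 𝓘 1) (GI (jn 𝓘 p))
    (fun U hU a ha => toG (jn 𝓘 p) (a ^ p) (pow_sub_one_mem p 𝓘 hU a ha))
    (fun U hU a b ha hb hab => by
      apply uval_injective
      rw [uval_add, uval_toG, uval_toG, uval_toG, mul_pow])
    (fun U V hU hV g a ha ha' => by
      apply uval_injective
      rw [uval_map, uval_toG, uval_toG, map_pow])
  exact ⟨f, fun U hU s => by rw [hf U hU, uval_toG]⟩

include hG in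
theorem exists_dlogG : ∃ f : GI (jn 𝓘 p) ⟶ Q (jn 𝓘 1),
    ∀ (U : X.Etale) (hU : Good p 𝓘 U) (s : EtCoh.sect (GI (jn 𝓘 p)) U),
      f.hom.app (op U) s = toS (jn 𝓘 1)
        ((↑(uval (jn 𝓘 p) s)⁻¹ : Γ(U.left, ⊤)) • KaehlerDifferential.D ZZ.{u} _
          (uval (jn 𝓘 p) s : Γ(U.left, ⊤))) (Dlog_mem_JΩ hU (uval_mem _ s)) :=
  exists_of_G (Good p 𝓘) (jn 𝓘 p) (Q (jn 𝓘 1))
    (fun U hU a ha => toS (jn 𝓘 1)
      ((↑a⁻¹ : Γ(U.left, ⊤)) • KaehlerDifferential.D ZZ.{u} _ (a : Γ(U.left, ⊤)))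
        (Dlog_mem_JΩ hU ha))
    (fun U hU a b ha hb hab => by
      rw [← toS_add (jn 𝓘 1) _ _ (Submodule.add_mem _ (Dlog_mem_JΩ hU ha) (Dlog_mem_JΩ hU hb))]
      refine toS_congr _ ?_ _ _
      rw [mul_inv, Units.val_mul, Units.val_mul, Derivation.leibniz, smul_add, smul_smul, smul_smul,
        add_comm]
      congr 2
      · rw [mul_assoc, Units.inv_mul, mul_one]
      · rw [mul_comm (↑a⁻¹ : Γ(U.left, ⊤)), mul_assoc, Units.inv_mul, mul_one])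
    (fun U V hU hV g a ha ha' => by
      rw [toS_map]
      refine toS_congr _ ?_ _ _
      rw [mapΩ_smul, mapΩ_D]
      rfl)

/-- The inclusion `G n ⟶ G m`. -/
noncomputable def incG {m n : ℕ} (hmn : m ≤ n) : GI (jn 𝓘 n) ⟶ GI (jn 𝓘 m) :=
  (exists_incG p 𝓘 hmn).choose

/-- The Frobenius `G 1 ⟶ G p`. -/
noncomputable def frobG : GI (jn 𝓘 1) ⟶ GI (jn 𝓘 p) := (exists_frobG p 𝓘).choose

/-- The logarithmic differential `G p ⟶ Q`. -/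
noncomputable def dlogG : GI (jn 𝓘 p) ⟶ Q (jn 𝓘 1) := (exists_dlogG p 𝓘).choose

variable {p 𝓘}

theorem uval_incG {m n : ℕ} (hmn : m ≤ n) {U : X.Etale} (hU : Good p 𝓘 U)
    (s : EtCoh.sect (GI (jn 𝓘 n)) U) :
    uval (jn 𝓘 m) ((incG p 𝓘 hmn).hom.app (op U) s) = uval (jn 𝓘 n) s :=
  (exists_incG p 𝓘 hmn).choose_spec U hU s

theorem uval_frobG {U : X.Etale} (hU : Good p 𝓘 U) (s : EtCoh.sect (GI (jn 𝓘 1)) U) :
    uval (jn 𝓘 p) ((frobG p 𝓘).hom.app (op U) s) = uval (jn 𝓘 1) s ^ p :=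
  (exists_frobG p 𝓘).choose_spec U hU s

theorem dlogG_app {U : X.Etale} (hU : Good p 𝓘 U) (s : EtCoh.sect (GI (jn 𝓘 p)) U) :
    (dlogG p 𝓘).hom.app (op U) s = toS (jn 𝓘 1)
        ((↑(uval (jn 𝓘 p) s)⁻¹ : Γ(U.left, ⊤)) • KaehlerDifferential.D ZZ.{u} _
          (uval (jn 𝓘 p) s : Γ(U.left, ⊤))) (Dlog_mem_JΩ hU (uval_mem _ s)) :=
  (exists_dlogG p 𝓘).choose_spec U hU s

end maps

end K951.Maps
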