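import Groth.Agent.Dix.K951.PLog
import Groth.Agent.Dix.K951.AffSheaf
import Groth.Agent.Etbc.H212.KZar
import Mathlib.RingTheory.Etale.Kaehler

/-!
# Differential forms with coefficients in an ideal, on the small étale site

For a closed immersion `i : Z ⟶ X` and `U` étale over `X`:
* `J i U` : the ideal of the functions on `U` which vanish on `U ×_X Z`;
* `PΩ i` : the presheaf `U ↦ J(U) Ω[Γ(U)⁄ℤ]`, quasi-coherent (`qcP`);
* `exists_Q` : the étale sheaf with the same sections on affine objects.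
-/

set_option autoImplicit false
set_option linter.unusedSectionVars false

universe u

open CategoryTheory CategoryTheory.Limits AlgebraicGeometry Opposite

namespace K951.OmegaP

open Groth.Agent Groth.Agent.Etbase Groth.Agent.Etbc.H212.ASClosed Groth.Agent.Etbc.H212.KQC
open K951.PChart
open scoped K951.PChart TensorProduct

section ring

variable {A B : Type u} [CommRing A] [CommRing B] [Algebra A B]

/-- Submodules of the form `I M` under flat base change. -/
theorem isBaseChange_smul [Module.Flat A B] {M M' : Type u} [AddCommGroup M] [AddCommGroup M']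
    [Module A M] [Module B M'] [Module A M'] [IsScalarTower A B M'] (ψ : M →ₗ[A] M')
    (hψ : IsBaseChange B ψ) (I : Ideal A) (I' : Ideal B) (hI : I.map (algebraMap A B) = I')
    (ψ' : ↥(I • (⊤ : Submodule A M)) →ₗ[A] ↥(I' • (⊤ : Submodule B M')))
    (h : ∀ x, ((ψ' x : ↥(I' • (⊤ : Submodule B M'))) : M') = ψ x) :
    IsBaseChange B ψ' := by
  subst hI
  let N : Submodule A M := I • (⊤ : Submodule A M)
  let N' : Submodule B M' := (I.map (algebraMap A B)) • (⊤ : Submodule B M')
  let e : B ⊗[A] N →ₗ[B] N' := LinearMap.liftBaseChange B ψ'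
  have he : ∀ x : B ⊗[A] N, ((e x : N') : M') = hψ.equiv (N.subtype.lTensor B x) := by
    intro x
    induction x with
    | zero => simp
    | tmul b n =>
      rw [LinearMap.liftBaseChange_tmul, LinearMap.lTensor_tmul, hψ.equiv_tmul]
      change b • ((ψ' n : N') : M') = _
      rw [h]
      rfl
    | add x y hx hy =>
      rw [map_add, map_add, map_add, ← hx, ← hy]
      rfl
  have hinj : Function.Injective e := by
    intro x y hxy
    have h1 : hψ.equiv (N.subtype.lTensor B x) = hψ.equiv (N.subtype.lTensor B y) := by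
      rw [← he, ← he, hxy]
    exact Module.Flat.lTensor_preserves_injective_linearMap N.subtype N.injective_subtype
      (hψ.equiv.injective h1)
  have hspan : ∀ m : M', m ∈ Submodule.span B (Set.range ψ) := by
    intro m
    obtain ⟨t, rfl⟩ := hψ.equiv.surjective m
    induction t with
    | zero => rw [map_zero]; exact Submodule.zero_mem _
    | tmul b n =>
      rw [hψ.equiv_tmul]
      exact Submodule.smul_mem _ _ (Submodule.subset_span ⟨n, rfl⟩)
    | add x y hx hy => rw [map_add]; exact Submodule.add_mem _ hx hy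
  have hrange : ∀ m ∈ N', ∃ x, ((e x : N') : M') = m := by
    intro m hm
    refine Submodule.smul_induction_on hm ?_ ?_
    · intro r hr n _
      -- `r ∈ I B`, `n ∈ M'`
      refine Submodule.span_induction (p := fun r _ => ∃ x, ((e x : N') : M') = r • n) ?_ ?_ ?_ ?_ hr
      · rintro _ ⟨a, ha, rfl⟩
        refine Submodule.span_induction (p := fun n _ => ∃ x, ((e x : N') : M') =
          algebraMap A B a • n) ?_ ?_ ?_ ?_ (hspan n)
        · rintro _ ⟨k, rfl⟩
          refine ⟨1 ⊗ₜ (⟨a • k, Submodule.smul_mem_smul ha trivial⟩ : N), ?_⟩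
          rw [LinearMap.liftBaseChange_tmul, one_smul, h]
          change ψ (a • k) = _
          rw [map_smul, algebraMap_smul]
        · exact ⟨0, by simp⟩
        · rintro x y _ _ ⟨s, hs⟩ ⟨t, ht⟩
          exact ⟨s + t, by rw [map_add, smul_add, ← hs, ← ht]; rfl⟩
        · rintro b x _ ⟨s, hs⟩
          exact ⟨b • s, by rw [map_smul, smul_comm, ← hs]; rfl⟩
      · exact ⟨0, by simp⟩
      · rintro x y _ _ ⟨s, hs⟩ ⟨t, ht⟩
        exact ⟨s + t, by rw [map_add, add_smul, ← hs, ← ht]; rfl⟩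
      · rintro b x _ ⟨s, hs⟩
        exact ⟨b • s, by rw [map_smul, smul_assoc, ← hs]; rfl⟩
    · rintro x y ⟨s, hs⟩ ⟨t, ht⟩
      exact ⟨s + t, by rw [map_add, ← hs, ← ht]; rfl⟩
  have hbij : Function.Bijective e :=
    ⟨hinj, fun m => by
      obtain ⟨x, hx⟩ := hrange m m.2
      exact ⟨x, Subtype.ext hx⟩⟩
  refine IsBaseChange.of_equiv (LinearEquiv.ofBijective e hbij) fun x => ?_
  change e (1 ⊗ₜ x) = ψ' x
  rw [LinearMap.liftBaseChange_tmul, one_smul]

theorem isBC_of_equiv {A B : Type u} [CommRing A] [CommRing B] (φ : A →+* B) {M M' : Type u}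
    [AddCommGroup M] [AddCommGroup M'] [Module A M] [Module B M'] (ψ : M →+ M')
    (hlin : ∀ (a : A) (m : M), ψ (a • m) = φ a • ψ m)
    (e : letI := φ.toAlgebra; B ⊗[A] M ≃ₗ[B] M')
    (he : letI := φ.toAlgebra; ∀ x : M, e ((1 : B) ⊗ₜ[A] x) = ψ x) : FFExact.IsBC φ ψ := by
  let : Algebra A B := φ.toAlgebra
  refine ⟨hlin, ?_⟩
  let : Module A M' := Module.compHom _ φ
  have : IsScalarTower A B M' := ⟨fun a b m => by
      change (φ a * b) • m = φ a • b • m
      rw [mul_smul]⟩
  exact IsBaseChange.of_equiv e he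

theorem isBC_smul {A B : Type u} [CommRing A] [CommRing B] (φ : A →+* B) (hφ : φ.Flat)
    {M M' : Type u} [AddCommGroup M] [AddCommGroup M'] [Module A M] [Module B M'] (ψ : M →+ M')
    (h : FFExact.IsBC φ ψ) (I : Ideal A) (I' : Ideal B) (hI : I.map φ = I')
    (ψ' : ↥(I • (⊤ : Submodule A M)) →+ ↥(I' • (⊤ : Submodule B M')))
    (h' : ∀ x, ((ψ' x : ↥(I' • (⊤ : Submodule B M'))) : M') = ψ x) :
    FFExact.IsBC φ ψ' := by
  let : Algebra A B := φ.toAlgebra
  have hfl : Module.Flat A B := hφ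
  obtain ⟨h1, h2⟩ := h
  let : Module A M' := Module.compHom _ φ
  have : IsScalarTower A B M' := ⟨fun a b m => by
      change (φ a * b) • m = φ a • b • m
      rw [mul_smul]⟩
  have hlin : ∀ a (x : ↥(I • (⊤ : Submodule A M))), ψ' (a • x) = φ a • ψ' x := by
    intro a x
    apply Subtype.ext
    rw [h']
    change ψ (a • (x : M)) = φ a • ((ψ' x : ↥(I' • (⊤ : Submodule B M'))) : M')
    rw [h1, h']
  refine ⟨hlin, ?_⟩
  exact isBaseChange_smul { toFun := ψ, map_add' := ψ.map_add, map_smul' := h1 } h2 I I' hI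
    { toFun := ψ', map_add' := ψ'.map_add, map_smul' := hlin } h'

theorem isBC_uliftMap {A B : Type u} [CommRing A] [CommRing B] (φ : A →+* B)
    {M M' : Type u} [AddCommGroup M] [AddCommGroup M'] [Module A M] [Module B M'] (ψ : M →+ M')
    (h : FFExact.IsBC φ ψ) (ψ' : ULift.{u + 1} M →+ ULift.{u + 1} M')
    (h' : ∀ x, (ψ' x).down = ψ x.down) : FFExact.IsBC φ ψ' := by
  let : Algebra A B := φ.toAlgebra
  obtain ⟨h1, h2⟩ := h
  let : Module A M' := Module.compHom _ φ
  have : IsScalarTower A B M' := ⟨fun a b m => by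
      change (φ a * b) • m = φ a • b • m
      rw [mul_smul]⟩
  have hlin : ∀ a (x : ULift.{u + 1} M), ψ' (a • x) = φ a • ψ' x := by
    intro a x
    apply ULift.ext
    rw [h']
    change ψ (a • x.down) = φ a • (ψ' x).down
    rw [h1, h']
  refine ⟨hlin, ?_⟩
  let eU : M ≃ₗ[A] ULift.{u + 1} M := ULift.moduleEquiv.symm
  let eV : M' ≃ₗ[B] ULift.{u + 1} M' := ULift.moduleEquiv.symm
  refine IsBaseChange.of_equiv ((eU.symm.baseChange A B _ _).trans (h2.equiv.trans eV)) fun x => ?_
  rw [LinearEquiv.trans_apply, LinearEquiv.trans_apply, LinearEquiv.baseChange_tmul,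
    h2.equiv_tmul, one_smul]
  exact ULift.ext _ _ (h' x).symm

/-- The base change property in the form needed for presheaves. -/
theorem isBC_ulift {A B : Type u} [CommRing A] [CommRing B] (φ : A →+* B) (hφ : φ.Etale)
    (I : Ideal A) (I' : Ideal B) (hI : I.map φ = I')
    (ψ : ULift.{u + 1} ↥(I • (⊤ : Submodule A (Ω[A⁄ZZ.{u}]))) →+
      ULift.{u + 1} ↥(I' • (⊤ : Submodule B (Ω[B⁄ZZ.{u}]))))
    (hψ : ∀ x, ((ψ x).down : Ω[B⁄ZZ.{u}]) =
      (letI := φ.toAlgebra
       haveI := K951.PForm.isScalarTower_ZZ A B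
       KaehlerDifferential.map ZZ.{u} ZZ.{u} A B (x.down : Ω[A⁄ZZ.{u}]))) :
    FFExact.IsBC φ ψ := by
  let : Algebra A B := φ.toAlgebra
  have htw : IsScalarTower ZZ.{u} A B := K951.PForm.isScalarTower_ZZ A B
  have het : Algebra.Etale A B := hφ
  let ψ₀ : Ω[A⁄ZZ.{u}] →ₗ[A] Ω[B⁄ZZ.{u}] := KaehlerDifferential.map ZZ.{u} ZZ.{u} A B
  have hψ₀ : IsBaseChange B ψ₀ := KaehlerDifferential.isBaseChange_of_formallyEtale ZZ.{u} A B
  have h1 : FFExact.IsBC φ ψ₀.toAddMonoidHom := by
    refine isBC_of_equiv φ ψ₀.toAddMonoidHom (fun a m => ?_) hψ₀.equiv (fun x => ?_)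
    · exact (map_smul ψ₀ a m).trans (algebraMap_smul B a _).symm
    · rw [hψ₀.equiv_tmul, one_smul]
      rfl
  let ψ' : ↥(I • (⊤ : Submodule A (Ω[A⁄ZZ.{u}]))) →+ ↥(I' • (⊤ : Submodule B (Ω[B⁄ZZ.{u}]))) :=
    { toFun := fun x => (ψ (ULift.up x)).down
      map_zero' := congrArg ULift.down (map_zero ψ)
      map_add' := fun x y => congrArg ULift.down (map_add ψ (ULift.up x) (ULift.up y)) }
  have hfl : φ.Flat := inferInstanceAs (Module.Flat A B)
  have h2 : FFExact.IsBC φ ψ' := isBC_smul φ hfl ψ₀.toAddMonoidHom h1 I I' hI ψ'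
    (fun x => hψ (ULift.up x))
  exact isBC_uliftMap φ ψ' h2 ψ (fun _ => rfl)

end ring

section

variable {Z X : Scheme.{u}} (i : Z ⟶ X)

/-- The ideal of the functions on `U` which vanish on `U ×_X Z`. -/
noncomputable def J (U : X.Etale) : Ideal Γ(U.left, ⊤) := RingHom.ker (bcFst i U).appTop.hom

theorem mem_J_iff {U : X.Etale} {a : Γ(U.left, ⊤)} : a ∈ J i U ↔ (bcFst i U).appTop a = 0 :=
  Iff.rfl

theorem val_mem {U : X.Etale} (s : EtCoh.sect (K i) U) : val i s ∈ J i U := val_res i s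

theorem map_mem {U V : X.Etale} (g : V ⟶ U) {a : Γ(U.left, ⊤)} (ha : a ∈ J i U) :
    g.left.appTop a ∈ J i V := by
  obtain ⟨t, rfl⟩ := exists_val i U a ha
  rw [← val_map]
  exact val_mem i _

theorem map_J [IsClosedImmersion i] {U V : X.Etale} (g : V ⟶ U) (hV : IsAffine V.left)
    (hU : IsAffine U.left) : (J i U).map g.left.appTop.hom = J i V := by
  apply le_antisymm
  · rw [Ideal.map_le_iff_le_comap]
    intro a ha
    exact map_mem i g ha
  · intro b hb
    obtain ⟨s, rfl⟩ := exists_val i V b hb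
    let := modK i U
    let := modK i V
    obtain ⟨h1, h2⟩ := isBC_K i g hV hU
    let φ := g.left.appTop.hom
    let := φ.toAlgebra
    let : Module Γ(U.left, ⊤) (EtCoh.sect (K i) V) := Module.compHom _ φ
    have : IsScalarTower Γ(U.left, ⊤) Γ(V.left, ⊤) (EtCoh.sect (K i) V) := ⟨fun a b m => by
      change (φ a * b) • m = φ a • b • m
      rw [mul_smul]⟩
    have hval : ∀ (b : Γ(V.left, ⊤)) (s : EtCoh.sect (K i) V), val i (b • s) = b * val i s := by
      intro b s
      rw [← eK_val, ← eK_val]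
      exact congrArg Subtype.val ((eK i V).apply_symm_apply _)
    have hadd : ∀ (s t : EtCoh.sect (K i) V), val i (s + t) = val i s + val i t := by
      intro s t
      rw [← eK_val, ← eK_val, ← eK_val, map_add]
      rfl
    obtain ⟨t, rfl⟩ := h2.equiv.surjective s
    clear hb
    induction t with
    | zero =>
      rw [map_zero]
      have h0 : val i (0 : EtCoh.sect (K i) V) = 0 := by
        rw [← eK_val, map_zero]
        rfl
      rw [h0]
      exact Ideal.zero_mem _
    | tmul b n =>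
      rw [h2.equiv_tmul, hval]
      refine Ideal.mul_mem_left _ _ ?_
      have h3 := val_map i g n
      change val i ((K i).obj.map g.op n) ∈ _
      rw [h3]
      exact Ideal.mem_map_of_mem _ (val_mem i n)
    | add x y hx hy =>
      rw [map_add, hadd]
      exact Ideal.add_mem _ hx hy

/-- The transition map on differentials. -/
noncomputable def mapΩ {U V : X.Etale} (g : V ⟶ U) :
    Ω[Γ(U.left, ⊤)⁄ZZ.{u}] →+ Ω[Γ(V.left, ⊤)⁄ZZ.{u}] :=
  letI := g.left.appTop.hom.toAlgebra
  haveI := K951.PForm.isScalarTower_ZZ Γ(U.left, ⊤) Γ(V.left, ⊤)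
  (KaehlerDifferential.map ZZ.{u} ZZ.{u} Γ(U.left, ⊤) Γ(V.left, ⊤)).toAddMonoidHom

theorem mapΩ_D {U V : X.Etale} (g : V ⟶ U) (a : Γ(U.left, ⊤)) :
    mapΩ g (KaehlerDifferential.D ZZ.{u} _ a) = KaehlerDifferential.D ZZ.{u} _ (g.left.appTop a) := by
  let := g.left.appTop.hom.toAlgebra
  have := K951.PForm.isScalarTower_ZZ Γ(U.left, ⊤) Γ(V.left, ⊤)
  exact KaehlerDifferential.map_D ZZ.{u} ZZ.{u} Γ(U.left, ⊤) Γ(V.left, ⊤) a

theorem mapΩ_smul {U V : X.Etale} (g : V ⟶ U) (a : Γ(U.left, ⊤)) (x : Ω[Γ(U.left, ⊤)⁄ZZ.{u}]) :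
    mapΩ g (a • x) = (g.left.appTop a) • mapΩ g x := by
  let := g.left.appTop.hom.toAlgebra
  have := K951.PForm.isScalarTower_ZZ Γ(U.left, ⊤) Γ(V.left, ⊤)
  exact (map_smul (KaehlerDifferential.map ZZ.{u} ZZ.{u} Γ(U.left, ⊤) Γ(V.left, ⊤)) a x).trans
    (algebraMap_smul Γ(V.left, ⊤) a _).symm

/-- Additive maps out of the differentials are determined on `a db`. -/
theorem omega_ext {A : Type u} [CommRing A] {M : Type*} [AddCommGroup M]
    (f g : Ω[A⁄ZZ.{u}] →+ M)
    (h : ∀ a b : A, f (a • KaehlerDifferential.D ZZ.{u} A b) =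
      g (a • KaehlerDifferential.D ZZ.{u} A b)) : f = g := by
  ext x
  have hx : x ∈ Submodule.span A (Set.range (KaehlerDifferential.D ZZ.{u} A)) := by
    rw [KaehlerDifferential.span_range_derivation]
    trivial
  have key : ∀ a : A, f (a • x) = g (a • x) := by
    induction hx using Submodule.span_induction with
    | mem x hx =>
      obtain ⟨b, rfl⟩ := hx
      exact fun a => h a b
    | zero => intro a; simp
    | add x y _ _ hx hy => intro a; rw [smul_add, map_add, map_add, hx, hy]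
    | smul b x _ hx => intro a; rw [smul_smul]; exact hx _
  simpa using key 1

theorem mapΩ_id (U : X.Etale) : mapΩ (𝟙 U) = AddMonoidHom.id _ := by
  apply omega_ext
  intro a b
  rw [mapΩ_smul, mapΩ_D]
  have h : ∀ c : Γ(U.left, ⊤), (𝟙 U : U ⟶ U).left.appTop c = c := fun c => by
    change (𝟙 U.left : U.left ⟶ U.left).appTop c = c
    rw [Scheme.Hom.id_appTop]
    rfl
  rw [h, h]
  rfl

theorem mapΩ_comp {U V W : X.Etale} (g : V ⟶ U) (k : W ⟶ V) :
    mapΩ (k ≫ g) = (mapΩ k).comp (mapΩ g) := by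
  apply omega_ext
  intro a b
  rw [AddMonoidHom.comp_apply, mapΩ_smul, mapΩ_smul, mapΩ_smul, mapΩ_D, mapΩ_D, mapΩ_D]
  have h : ∀ c : Γ(U.left, ⊤), (k ≫ g).left.appTop c = k.left.appTop (g.left.appTop c) := by
    intro c
    change (k.left ≫ g.left).appTop c = _
    rw [Scheme.Hom.comp_appTop]
    rfl
  rw [h, h]

/-- Forms with coefficients in `J(U)`. -/
noncomputable def JΩ (U : X.Etale) : Submodule Γ(U.left, ⊤) (Ω[Γ(U.left, ⊤)⁄ZZ.{u}]) :=
  J i U • (⊤ : Submodule Γ(U.left, ⊤) (Ω[Γ(U.left, ⊤)⁄ZZ.{u}]))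

theorem mapΩ_mem {U V : X.Etale} (g : V ⟶ U) {x : Ω[Γ(U.left, ⊤)⁄ZZ.{u}]} (hx : x ∈ JΩ i U) :
    mapΩ g x ∈ JΩ i V := by
  refine Submodule.smul_induction_on hx ?_ ?_
  · intro r hr n _
    rw [mapΩ_smul]
    exact Submodule.smul_mem_smul (map_mem i g hr) trivial
  · intro x y hx hy
    rw [map_add]
    exact Submodule.add_mem _ hx hy

/-- The presheaf `U ↦ J(U) Ω[Γ(U)⁄ℤ]`. -/
noncomputable def PΩ : X.Etaleᵒᵖ ⥤ AddCommGrpCat.{u + 1} where
  obj U := AddCommGrpCat.of (ULift.{u + 1} ↥(JΩ i U.unop))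
  map {U V} g := AddCommGrpCat.ofHom
    { toFun := fun x => ULift.up ⟨mapΩ g.unop x.down.1, mapΩ_mem i g.unop x.down.2⟩
      map_zero' := by
        apply ULift.ext
        apply Subtype.ext
        exact map_zero (mapΩ g.unop)
      map_add' := fun x y => by
        apply ULift.ext
        apply Subtype.ext
        exact map_add (mapΩ g.unop) _ _ }
  map_id U := by
    ext x
    exact DFunLike.congr_fun (mapΩ_id U.unop) x.down.1
  map_comp {U V W} g k := by
    ext x
    exact DFunLike.congr_fun (mapΩ_comp g.unop k.unop) x.down.1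

/-- The underlying form of a section of `PΩ`. -/
noncomputable def fm {U : X.Etale} (x : (PΩ i).obj (op U)) : Ω[Γ(U.left, ⊤)⁄ZZ.{u}] :=
  (show ULift.{u + 1} ↥(JΩ i U) from x).down.1

theorem fm_mem {U : X.Etale} (x : (PΩ i).obj (op U)) : fm i x ∈ JΩ i U :=
  (show ULift.{u + 1} ↥(JΩ i U) from x).down.2

theorem fm_injective {U : X.Etale} {x y : (PΩ i).obj (op U)} (h : fm i x = fm i y) : x = y :=
  ULift.ext _ _ (Subtype.ext h)

/-- The section of `PΩ` with given underlying form. -/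
noncomputable def toP {U : X.Etale} (x : Ω[Γ(U.left, ⊤)⁄ZZ.{u}]) (hx : x ∈ JΩ i U) :
    (PΩ i).obj (op U) := (ULift.up ⟨x, hx⟩ : ULift.{u + 1} ↥(JΩ i U))

@[simp] theorem fm_toP {U : X.Etale} (x : Ω[Γ(U.left, ⊤)⁄ZZ.{u}]) (hx : x ∈ JΩ i U) :
    fm i (toP i x hx) = x := rfl

theorem fm_map {U V : X.Etale} (g : V ⟶ U) (x : (PΩ i).obj (op U)) :
    fm i ((PΩ i).map g.op x) = mapΩ g (fm i x) := rfl

theorem fm_add {U : X.Etale} (x y : (PΩ i).obj (op U)) : fm i (x + y) = fm i x + fm i y := rfl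

theorem fm_zero {U : X.Etale} : fm i (0 : (PΩ i).obj (op U)) = 0 := rfl

theorem fm_neg {U : X.Etale} (x : (PΩ i).obj (op U)) : fm i (-x) = - fm i x := rfl

theorem fm_sub {U : X.Etale} (x y : (PΩ i).obj (op U)) : fm i (x - y) = fm i x - fm i y := rfl

/-- The module structures. -/
@[implicit_reducible]
noncomputable def modP (U : X.Etale) : Module Γ(U.left, ⊤) ((PΩ i).obj (op U)) :=
  inferInstanceAs (Module Γ(U.left, ⊤) (ULift.{u + 1} ↥(JΩ i U)))

theorem etale_appTop {U V : X.Etale} (g : V ⟶ U) (hV : IsAffine V.left) (hU : IsAffine U.left) :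
    g.left.appTop.hom.Etale :=
  HasRingHomProperty.appTop (P := @Etale) g.left inferInstance

theorem isBC_P [IsClosedImmersion i] {U V : X.Etale} (g : V ⟶ U) (hV : IsAffine V.left)
    (hU : IsAffine U.left) :
    letI := modP i U
    letI := modP i V
    FFExact.IsBC g.left.appTop.hom ((PΩ i).map g.op).hom := by
  exact isBC_ulift g.left.appTop.hom (etale_appTop g hV hU) (J i U) (J i V) (map_J i g hV hU) _
    (fun _ => rfl)

/-- Quasi-coherence. -/
noncomputable def qcP [IsClosedImmersion i] : EtQC.QC (PΩ i) where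
  mod U := modP i U
  isBC g hV hU := isBC_P i g hV hU

theorem exists_Q [IsClosedImmersion i] : ∃ (F : EtCoh.Ab X) (a : PΩ i ⟶ F.obj),
    ∀ U : X.Etale, IsAffine U.left → Function.Bijective (a.app (op U)) :=
  AffSheaf.exists_sheaf (qcP i)

/-- The étale sheaf of forms with coefficients in the ideal. -/
noncomputable def Q [IsClosedImmersion i] : EtCoh.Ab X := (exists_Q i).choose

/-- The comparison map. -/
noncomputable def toQ [IsClosedImmersion i] : PΩ i ⟶ (Q i).obj := (exists_Q i).choose_spec.choose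

theorem toQ_bijective [IsClosedImmersion i] (U : X.Etale) (hU : IsAffine U.left) :
    Function.Bijective ((toQ i).app (op U)) := (exists_Q i).choose_spec.choose_spec U hU

end

end K951.OmegaP
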