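import Groth.Agent.FrobAlg.K675.EtalePB
import Groth.Agent.Ega41.PBasisGen
import Groth.Agent.S2467
import Mathlib.RingTheory.Kaehler.Basic
import Mathlib.Algebra.Field.ULift
import Mathlib.Algebra.Algebra.ZMod

/-!
# Monomial p-bases

`MonPB p z` : the monomials `∏ z_i ^ e_i`, `0 ≤ e_i < p`, form a basis of the ring `A` over itself
through the Frobenius.
* stability: `MonPB.ringEquiv`, `MonPB.etale`, `MonPB.fractionField`, `MonPB.mvPolynomial`;
* `exists_monPB_field` : existence for fields with finite Frobenius;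
* `exists_basis` : the differentials `dz_i` form a basis of `Ω[A⁄ℤ]`.
-/

set_option autoImplicit false
universe u v w

namespace K951.PChart

open K675.PBasis K675.EtalePB

/-- The integers in the universe `u`. -/
def ZZ : Type u := ULift.{u} ℤ

instance : CommRing ZZ.{u} := inferInstanceAs (CommRing (ULift.{u} ℤ))

/-- The integers map to every ring. -/
def intHom (A : Type v) [CommRing A] : ZZ.{u} →+* A :=
  (Int.castRingHom A).comp (ULift.ringEquiv : ULift.{u} ℤ ≃+* ℤ).toRingHom

theorem hom_ext {A : Type v} [CommRing A] (f g : ZZ.{u} →+* A) : f = g := by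
  have h : f.comp (ULift.ringEquiv : ULift.{u} ℤ ≃+* ℤ).symm.toRingHom =
      g.comp (ULift.ringEquiv : ULift.{u} ℤ ≃+* ℤ).symm.toRingHom := Subsingleton.elim _ _
  ext x
  exact RingHom.congr_fun h (ULift.down x)

/-- Every ring is an algebra over the integers. -/
scoped instance algZZ (A : Type v) [CommRing A] : Algebra ZZ.{u} A := (intHom A).toAlgebra

theorem smul_eq (A : Type v) [CommRing A] {M : Type w} [AddCommGroup M] [Module A M]
    [Module ZZ.{u} M] [IsScalarTower ZZ.{u} A M] (r : ZZ.{u}) (m : M) :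
    r • m = (ULift.down r : ℤ) • m := by
  rw [← algebraMap_smul A r m]
  exact Int.cast_smul_eq_zsmul A (ULift.down r : ℤ) m

/-- The monomial with exponents `e`. -/
def mon {p n : ℕ} {A : Type u} [CommRing A] (z : Fin n → A) (e : Fin n → Fin p) : A :=
  ∏ i, z i ^ (e i : ℕ)

/-- The monomials in `z` form a basis of `A` over itself through the Frobenius. -/
def MonPB (p : ℕ) {n : ℕ} {A : Type u} [CommRing A] (z : Fin n → A) : Prop :=
  IsPB p (fun e : Fin n → Fin p => mon z e)

/-- Existence of a monomial p-basis. -/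
def HasPB (p : ℕ) (A : Type u) [CommRing A] : Prop := ∃ (n : ℕ) (z : Fin n → A), MonPB p z

theorem map_mon {p n : ℕ} {A : Type u} {B : Type v} [CommRing A] [CommRing B] (f : A →+* B)
    (z : Fin n → A) (e : Fin n → Fin p) : f (mon z e) = mon (fun i => f (z i)) e := by
  simp [mon]

variable {p : ℕ} [hp : Fact p.Prime]

omit hp in
theorem MonPB.ringEquiv {n : ℕ} {A : Type u} {B : Type v} [CommRing A] [CommRing B]
    {z : Fin n → A} (h : MonPB p z) (e : A ≃+* B) : MonPB p (fun i => e (z i)) := by
  have h1 := IsPB.ringEquiv h e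
  have h2 : (fun i => e (mon z i)) = fun i : Fin n → Fin p => mon (fun i => e (z i)) i :=
    funext fun i => map_mon e.toRingHom z i
  rw [h2] at h1
  exact h1

theorem MonPB.etale {n : ℕ} {A : Type u} {B : Type v} [CommRing A] [CommRing B]
    [CharP A p] [CharP B p] {z : Fin n → A} (h : MonPB p z) (f : A →+* B) (hf : f.Etale) :
    MonPB p (fun i => f (z i)) := by
  have h1 := isPB_of_etale f hf h
  have h2 : (fun i => f (mon z i)) = fun i : Fin n → Fin p => mon (fun i => f (z i)) i :=
    funext fun i => map_mon f z i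
  rw [h2] at h1
  exact h1

theorem MonPB.fractionField {n : ℕ} {A : Type u} [CommRing A] [IsDomain A] [CharP A p]
    (K : Type v) [Field K] [CharP K p] [Algebra A K] [IsFractionRing A K] {z : Fin n → A}
    (h : MonPB p z) : MonPB p (fun i => algebraMap A K (z i)) := by
  have h1 := IsPB.fractionField K h
  have h2 : (fun i => algebraMap A K (mon z i)) =
      fun i : Fin n → Fin p => mon (fun i => algebraMap A K (z i)) i :=
    funext fun i => map_mon (algebraMap A K) z i
  rw [h2] at h1
  exact h1

theorem MonPB.polynomial {n : ℕ} {A : Type u} [CommRing A] [CharP A p] {z : Fin n → A}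
    (h : MonPB p z) :
    MonPB p (Fin.cons Polynomial.X (fun i => Polynomial.C (z i)) : Fin (n + 1) → Polynomial A) := by
  have h1 := IsPB.polynomial h
  let e : (Fin (n + 1) → Fin p) ≃ (Fin n → Fin p) × Fin p :=
    (Fin.consEquiv (fun _ => Fin p)).symm.trans (Equiv.prodComm _ _)
  have h2 := h1.reindex e
  have h3 : ((fun i : (Fin n → Fin p) × Fin p => Polynomial.C (mon z i.1) *
      Polynomial.X ^ (i.2 : ℕ)) ∘ e) = fun i : Fin (n + 1) → Fin p =>
        mon (Fin.cons Polynomial.X (fun i => Polynomial.C (z i)) : Fin (n + 1) → Polynomial A) i := by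
    funext i
    simp only [Function.comp_apply, mon, Fin.prod_univ_succ, Fin.cons_zero, Fin.cons_succ]
    rw [mul_comm, map_prod]
    simp only [map_pow]
    rfl
  rw [h3] at h2
  exact h2

omit hp in
theorem HasPB.ringEquiv {A : Type u} {B : Type v} [CommRing A] [CommRing B] (h : HasPB p A)
    (e : A ≃+* B) : HasPB p B := by
  obtain ⟨n, z, hz⟩ := h
  exact ⟨n, _, hz.ringEquiv e⟩

theorem HasPB.etale {A : Type u} {B : Type v} [CommRing A] [CommRing B] [CharP A p] [CharP B p]
    (h : HasPB p A) (f : A →+* B) (hf : f.Etale) : HasPB p B := by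
  obtain ⟨n, z, hz⟩ := h
  exact ⟨n, _, hz.etale f hf⟩

theorem HasPB.mvPolynomial {A : Type u} [CommRing A] [CharP A p] (h : HasPB p A) (d : ℕ) :
    HasPB p (MvPolynomial (Fin d) A) := by
  induction d with
  | zero => exact h.ringEquiv (MvPolynomial.isEmptyRingEquiv A (Fin 0)).symm
  | succ d ih =>
    obtain ⟨n, z, hz⟩ := ih
    exact HasPB.ringEquiv (⟨_, _, hz.polynomial⟩ : HasPB p (Polynomial (MvPolynomial (Fin d) A)))
      (MvPolynomial.finSuccEquiv A d).symm.toRingEquiv

section basis

variable {A : Type u} [CommRing A] [CharP A p] {n : ℕ} (z : Fin n → A)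

/-- Elements of `R[A^p]` are `p`-th powers if the elements of `R` are. -/
theorem exists_pow_of_mem (R : Type u) [CommRing R] [Algebra R A]
    (hR : ∀ r : R, ∃ a : A, a ^ p = algebraMap R A r) {x : A}
    (hx : x ∈ EGA41.pPowerSubalgebra p R A) : ∃ y : A, y ^ p = x := by
  induction hx using Algebra.adjoin_induction with
  | mem y hy => exact hy
  | algebraMap r => exact hR r
  | add y z _ _ hy hz =>
    obtain ⟨a, rfl⟩ := hy
    obtain ⟨b, rfl⟩ := hz
    exact ⟨a + b, add_pow_char a b p⟩
  | mul y z _ _ hy hz =>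
    obtain ⟨a, rfl⟩ := hy
    obtain ⟨b, rfl⟩ := hz
    exact ⟨a * b, mul_pow a b p⟩

theorem exists_pow_ZZ (r : ZZ.{u}) : ∃ a : A, a ^ p = algebraMap ZZ.{u} A r := by
  have : ExpChar A p := ExpChar.prime hp.out
  refine ⟨algebraMap ZZ.{u} A r, ?_⟩
  change ((r.down : ℤ) : A) ^ p = ((r.down : ℤ) : A)
  rw [← frobenius_def, map_intCast]

/-- The index sets of monomials. -/
noncomputable def expEquiv {ι : Type v} (e : ι ≃ Fin n) :
    (Fin n → Fin p) ≃ {c : ι →₀ ℕ // ∀ i, c i < p} :=
  have : Finite ι := Finite.of_equiv _ e.symm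
  { toFun := fun c => ⟨Finsupp.equivFunOnFinite.symm fun i => (c (e i) : ℕ), fun i => (c (e i)).2⟩
    invFun := fun c i => ⟨c.1 (e.symm i), c.2 _⟩
    left_inv := fun c => by
      funext i
      apply Fin.ext
      simp
    right_inv := fun c => by
      apply Subtype.ext
      ext i
      simp }

omit hp [CharP A p] in
theorem pMonomial_expEquiv {ι : Type u} (e : ι ≃ Fin n) (c : Fin n → Fin p) :
    EGA41.pMonomial (fun i => z (e i)) (expEquiv e c).1 = mon z c := by
  have : Finite ι := Finite.of_equiv _ e.symm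
  have := Fintype.ofFinite ι
  unfold EGA41.pMonomial mon
  rw [Finsupp.prod_fintype _ _ (fun i => pow_zero _), ← Equiv.prod_comp e]
  rfl

theorem isPBasis_of_monPB {z : Fin n → A} (h : MonPB p z) {ι : Type u} (e : ι ≃ Fin n)
    (R : Type u) [CommRing R] [Algebra R A]
    (hR : ∀ r : R, ∃ a : A, a ^ p = algebraMap R A r) :
    EGA41.IsPBasis p R (fun i => z (e i)) := by
  classical
  have h' := (isPB_iff _).1 h
  constructor
  · unfold EGA41.IsPIndependent
    rw [← linearIndependent_equiv (expEquiv e)]
    have h1 : ((fun c : {c : ι →₀ ℕ // ∀ i, c i < p} => EGA41.pMonomial (fun i => z (e i)) c.1) ∘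
        (expEquiv e)) = fun c : Fin n → Fin p => mon z c := funext fun c => pMonomial_expEquiv z e c
    rw [h1, Fintype.linearIndependent_iff]
    intro g hg i
    choose d hd using fun i => exists_pow_of_mem R hR (g i).2
    have h2 := h'.1 d (by
      rw [← hg]
      exact Finset.sum_congr rfl fun i _ => by rw [hd]; rfl)
    apply Subtype.ext
    rw [← hd i, h2, Pi.zero_apply, zero_pow hp.out.ne_zero]
    rfl
  · unfold EGA41.IsPGenerating
    rw [eq_top_iff]
    rintro b -
    obtain ⟨c, hc⟩ := h'.2 b
    rw [hc]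
    refine Submodule.sum_mem _ fun i _ => ?_
    have h3 : mon z i ∈ Submodule.span (EGA41.pPowerSubalgebra p R A)
        (Set.range fun c : {c : ι →₀ ℕ // ∀ i, c i < p} =>
          EGA41.pMonomial (fun i => z (e i)) c.1) :=
      Submodule.subset_span ⟨expEquiv e i, pMonomial_expEquiv z e i⟩
    exact Submodule.smul_mem _ (⟨c i ^ p, Algebra.subset_adjoin ⟨c i, rfl⟩⟩ :
      EGA41.pPowerSubalgebra p R A) h3

theorem monPB_of_isPBasis [IsReduced A] {ι : Type u} (e : ι ≃ Fin n) (x : ι → A)
    (R : Type u) [CommRing R] [Algebra R A]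
    (hR : ∀ r : R, ∃ a : A, a ^ p = algebraMap R A r) (h : EGA41.IsPBasis p R x) :
    MonPB p (fun i => x (e.symm i)) := by
  classical
  set z : Fin n → A := fun i => x (e.symm i) with hz
  have hx : x = fun i => z (e i) := by
    funext i
    simp [hz]
  rw [hx] at h
  have h1 : ((fun c : {c : ι →₀ ℕ // ∀ i, c i < p} => EGA41.pMonomial (fun i => z (e i)) c.1) ∘
        (expEquiv e)) = fun c : Fin n → Fin p => mon z c := funext fun c => pMonomial_expEquiv z e c
  obtain ⟨ha, hb⟩ := h
  unfold EGA41.IsPIndependent at ha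
  rw [← linearIndependent_equiv (expEquiv e), h1, Fintype.linearIndependent_iff] at ha
  unfold EGA41.IsPGenerating at hb
  have h2 : (Set.range fun c : {c : ι →₀ ℕ // ∀ i, c i < p} =>
      EGA41.pMonomial (fun i => z (e i)) c.1) = Set.range fun c : Fin n → Fin p => mon z c := by
    rw [← h1, Set.range_comp, (expEquiv e).range_eq_univ, Set.image_univ]
  rw [h2] at hb
  refine (isPB_iff _).2 ⟨fun c hc => ?_, fun b => ?_⟩
  · have h3 := ha (fun i => ⟨c i ^ p, Algebra.subset_adjoin ⟨c i, rfl⟩⟩) hc
    funext i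
    have h4 := congrArg Subtype.val (h3 i)
    exact pow_eq_zero_iff hp.out.ne_zero |>.1 h4
  · have hb' : b ∈ Submodule.span (EGA41.pPowerSubalgebra p R A)
        (Set.range fun c : Fin n → Fin p => mon z c) := by rw [hb]; trivial
    obtain ⟨g, hg⟩ := (Submodule.mem_span_range_iff_exists_fun _).1 hb'
    choose d hd using fun i => exists_pow_of_mem R hR (g i).2
    refine ⟨d, ?_⟩
    rw [← hg]
    exact Finset.sum_congr rfl fun i _ => by rw [hd]; rfl

/-- The differentials `dz_i` form a basis. -/
theorem exists_basis {z : Fin n → A} (h : MonPB p z) :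
    ∃ b : Module.Basis (Fin n) A (Ω[A⁄ZZ.{u}]), ∀ i, b i = KaehlerDifferential.D ZZ.{u} A (z i) := by
  have h1 := isPBasis_of_monPB h (Equiv.ulift.{u} : ULift.{u} (Fin n) ≃ Fin n) ZZ.{u}
    exists_pow_ZZ
  obtain ⟨b, hb⟩ := Groth.Agent.Ega41.PBasisGen.exists_basis_of_isPBasis p (CharP.cast_eq_zero A p)
    _ h1
  refine ⟨b.reindex Equiv.ulift, fun i => ?_⟩
  rw [Module.Basis.reindex_apply, hb]
  rfl

end basis

/-- Fields with finite Frobenius have monomial p-bases. -/
theorem hasPB_field (k : Type u) [Field k] [CharP k p] (hF : (frobenius k p).Finite) :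
    HasPB p k := by
  classical
  let F : Type u := ULift.{u} (ZMod p)
  let : Algebra (ZMod p) k := ZMod.algebra k p
  let : Field F := inferInstanceAs (Field (ULift.{u} (ZMod p)))
  let : Algebra F k := ((algebraMap (ZMod p) k).comp
    (ULift.ringEquiv : ULift.{u} (ZMod p) ≃+* ZMod p).toRingHom).toAlgebra
  have hR : ∀ r : F, ∃ a : k, a ^ p = algebraMap F k r := by
    intro r
    refine ⟨algebraMap F k r, ?_⟩
    change (algebraMap (ZMod p) k r.down) ^ p = algebraMap (ZMod p) k r.down
    rw [← map_pow, ZMod.pow_card]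
  obtain ⟨B, -, -, hB⟩ := Groth.Agent.S2467.result p (k := F) (K := k) Set.univ ∅
    (Set.empty_subset _) (by
      unfold EGA41.IsPGenerating
      rw [eq_top_iff]
      rintro b -
      let bb : ↥(Set.univ : Set k) := ⟨b, trivial⟩
      have h1 : EGA41.pMonomial (Subtype.val : ↥(Set.univ : Set k) → k)
          (Finsupp.single bb 1) = b := by
        unfold EGA41.pMonomial
        rw [Finsupp.prod_single_index (by simp), pow_one]
      have h2 : ∀ i, (Finsupp.single bb (1 : ℕ)) i < p := by
        intro i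
        rw [Finsupp.single_apply]
        have := hp.out.two_le
        split_ifs <;> omega
      rw [← h1]
      exact Submodule.subset_span ⟨⟨Finsupp.single bb 1, h2⟩, rfl⟩) (by
      unfold EGA41.IsPIndependent
      have h0 : ∀ e : ((∅ : Set k) →₀ ℕ), e = 0 := fun e => Subsingleton.elim _ _
      rw [linearIndependent_iff']
      intro s g hg i hi
      have h1 : s = {i} := by
        ext j
        have : j = i := Subtype.ext ((h0 _).trans (h0 _).symm)
        simp [this, hi]
      rw [h1, Finset.sum_singleton] at hg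
      have h2 : EGA41.pMonomial (Subtype.val : (∅ : Set k) → k) i.1 = 1 := by
        rw [h0 i.1]
        simp [EGA41.pMonomial]
      rw [h2] at hg
      apply Subtype.ext
      simpa [Algebra.smul_def] using hg)
  -- finiteness of the p-basis
  have hfin : Module.Finite (EGA41.pPowerSubalgebra p F k) k := by
    let φ : k →+* EGA41.pPowerSubalgebra p F k :=
      (frobenius k p).codRestrict (EGA41.pPowerSubalgebra p F k) fun x =>
        Algebra.subset_adjoin ⟨x, rfl⟩
    have h1 : ((algebraMap (EGA41.pPowerSubalgebra p F k) k).comp φ).Finite := hF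
    exact RingHom.Finite.of_comp_finite h1
  have hfin2 : Finite {e : B →₀ ℕ // ∀ i, e i < p} := by
    let φ : k →+* EGA41.pPowerSubalgebra p F k :=
      (frobenius k p).codRestrict (EGA41.pPowerSubalgebra p F k) fun x =>
        Algebra.subset_adjoin ⟨x, rfl⟩
    have hφ : Function.Surjective φ := fun x => by
      obtain ⟨y, hy⟩ := exists_pow_of_mem F hR x.2
      exact ⟨y, Subtype.ext hy⟩
    have : IsNoetherianRing (EGA41.pPowerSubalgebra p F k) := isNoetherianRing_of_surjective k _ φ hφ
    have : IsNoetherian (EGA41.pPowerSubalgebra p F k) k := isNoetherian_of_isNoetherianRing_of_finite _ _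
    exact hB.1.finite_of_isNoetherian
  have hfin3 : Finite B := by
    refine Finite.of_injective (fun b : B => (⟨Finsupp.single b 1, fun i => ?_⟩ :
      {e : B →₀ ℕ // ∀ i, e i < p})) fun a b hab => ?_
    · rw [Finsupp.single_apply]
      have := hp.out.two_le
      split_ifs <;> omega
    · exact Finsupp.single_left_injective one_ne_zero (congrArg Subtype.val hab)
  obtain ⟨n, ⟨e⟩⟩ := Finite.exists_equiv_fin B
  exact ⟨n, _, monPB_of_isPBasis e _ F hR hB⟩

end K951.PChart
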