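import Groth.Agent.Dix.K951.PChart
import Groth.Agent.DeRham.K852.CartierInv
import Groth.Agent.Lefpen.H411.Regular
import Groth.Agent.Lefpen.H411.Cartier

/-!
# Differential calculus with monomial p-bases

`Chart p A` : a monomial p-basis of `A` with the basis `dz_i` of `Ω[A⁄ℤ]`; `Chart.D` the dual
derivations.
* `Chart.dvd_of_pow_dvd` : `t ^ p ∣ b ^ p → t ∣ b`;
* `Chart.exists_of_dvd` : `t ^ p ∣ D_i u` for all `i` implies `u = v ^ p + t ^ p * h`;
* `Chart.exists_pow` : `t ^ p ∣ a`, `da = 0` implies `a = b ^ p`, `t ∣ b`;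
* `Chart.exists_dlog` : forms fixed by the inverse Cartier operator are logarithmic, locally.
-/

set_option autoImplicit false
set_option linter.unusedSectionVars false
universe u v w

namespace K951.PForm

open K951.PChart K675.PBasis
open scoped K951.PChart

/-- A monomial p-basis together with the basis of differentials. -/
structure Chart (p : ℕ) (A : Type u) [CommRing A] where
  /-- the number of coordinates -/
  n : ℕ
  /-- the coordinates -/
  z : Fin n → A
  pb : MonPB p z
  /-- the basis of the differentials -/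
  b : Module.Basis (Fin n) A (Ω[A⁄ZZ.{u}])
  hb : ∀ i, b i = KaehlerDifferential.D ZZ.{u} A (z i)

variable {p : ℕ} [hp : Fact p.Prime] {A : Type u} [CommRing A]

theorem exists_chart [CharP A p] (h : HasPB p A) : Nonempty (Chart p A) := by
  obtain ⟨n, z, hz⟩ := h
  obtain ⟨b, hb⟩ := exists_basis hz
  exact ⟨⟨n, z, hz, b, hb⟩⟩

namespace Chart

variable (c : Chart p A)

/-- The dual derivations. -/
noncomputable def D (i : Fin c.n) : Derivation ZZ.{u} A A :=
  (c.b.coord i).compDer (KaehlerDifferential.D ZZ.{u} A)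

omit hp in
theorem D_apply (i : Fin c.n) (a : A) :
    c.D i a = c.b.coord i (KaehlerDifferential.D ZZ.{u} A a) := rfl

omit hp in
theorem D_z (i j : Fin c.n) : c.D i (c.z j) = if i = j then 1 else 0 := by
  rw [D_apply, ← c.hb, Module.Basis.coord_apply, Module.Basis.repr_self, Finsupp.single_apply]
  simp only [eq_comm]

omit hp in
theorem D_eq_sum (a : A) : KaehlerDifferential.D ZZ.{u} A a = ∑ i, c.D i a • c.b i := by
  conv_lhs => rw [← c.b.sum_repr (KaehlerDifferential.D ZZ.{u} A a)]
  rfl

omit hp in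
/-- Derivations are determined by their values on the coordinates. -/
theorem ext_der {M : Type v} [AddCommGroup M] [Module A M] [Module ZZ.{u} M]
    [IsScalarTower ZZ.{u} A M] (E E' : Derivation ZZ.{u} A M)
    (h : ∀ i, E (c.z i) = E' (c.z i)) : E = E' := by
  have h1 : E.liftKaehlerDifferential = E'.liftKaehlerDifferential := by
    apply c.b.ext
    intro i
    rw [c.hb, Derivation.liftKaehlerDifferential_comp_D, Derivation.liftKaehlerDifferential_comp_D,
      h]
  ext a
  rw [← Derivation.liftKaehlerDifferential_comp_D E, h1,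
    Derivation.liftKaehlerDifferential_comp_D]

theorem pow_const [CharP A p] {M : Type v} [AddCommGroup M] [Module A M] [Module ZZ.{u} M]
    (E : Derivation ZZ.{u} A M) (a : A) : E (a ^ p) = 0 := by
  rw [Derivation.leibniz_pow, ← Nat.cast_smul_eq_nsmul A, CharP.cast_eq_zero, zero_smul]

omit hp in
theorem prod_const {ι : Type*} (E : Derivation ZZ.{u} A A) (s : Finset ι) (f : ι → A)
    (h : ∀ i ∈ s, E (f i) = 0) : E (∏ i ∈ s, f i) = 0 := by
  classical
  induction s using Finset.induction_on with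
  | empty => simp
  | insert a s ha ih =>
    rw [Finset.prod_insert ha, Derivation.leibniz, ih fun i hi => h i (Finset.mem_insert_of_mem hi),
      h a (Finset.mem_insert_self _ _), smul_zero, smul_zero, add_zero]

omit hp in
/-- The derivative of a monomial. -/
theorem D_mon (i : Fin c.n) (e : Fin c.n → Fin p) :
    c.D i (mon c.z e) =
      ((e i : ℕ) : A) * (c.z i ^ ((e i : ℕ) - 1) * ∏ j ∈ Finset.univ.erase i, c.z j ^ (e j : ℕ)) := by
  unfold mon
  rw [← Finset.mul_prod_erase Finset.univ _ (Finset.mem_univ i), Derivation.leibniz,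
    prod_const (c.D i) (Finset.univ.erase i) _ (by
      intro j hj
      rw [Derivation.leibniz_pow, D_z, if_neg (Finset.ne_of_mem_erase hj).symm, smul_zero,
        smul_zero]), smul_zero, zero_add, Derivation.leibniz_pow, D_z, if_pos rfl]
  simp only [smul_eq_mul, nsmul_eq_mul, mul_one]
  ring

/-- Lowering an exponent. -/
def dn {n : ℕ} (i : Fin n) (e : Fin n → Fin p) : Fin n → Fin p :=
  Function.update e i ⟨(e i : ℕ) - 1, lt_of_le_of_lt (Nat.sub_le _ _) (e i).2⟩

/-- Raising an exponent. -/
def up {n : ℕ} (i : Fin n) (e : Fin n → Fin p) : Fin n → Fin p :=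
  Function.update e i ⟨if (e i : ℕ) + 1 < p then (e i : ℕ) + 1 else 0, by
    split_ifs with h
    · exact h
    · exact hp.out.pos⟩

theorem up_dn {n : ℕ} (i : Fin n) (e : Fin n → Fin p) (h : (e i : ℕ) ≠ 0) :
    up i (dn i e) = e := by
  funext j
  unfold up dn
  by_cases hj : j = i
  · subst hj
    apply Fin.ext
    have := (e j).2
    simp only [Function.update_self]
    rw [if_pos] <;> omega
  · rw [Function.update_of_ne hj, Function.update_of_ne hj]

theorem dn_up {n : ℕ} (i : Fin n) (e : Fin n → Fin p) (h : (e i : ℕ) + 1 < p) :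
    dn i (up i e) = e := by
  funext j
  unfold up dn
  by_cases hj : j = i
  · subst hj
    apply Fin.ext
    simp only [Function.update_self]
    rw [if_pos h]
    omega
  · rw [Function.update_of_ne hj, Function.update_of_ne hj]

omit hp in
theorem mon_dn (z : Fin c.n → A) (i : Fin c.n) (e : Fin c.n → Fin p) :
    mon z (dn i e) = z i ^ ((e i : ℕ) - 1) * ∏ j ∈ Finset.univ.erase i, z j ^ (e j : ℕ) := by
  unfold mon
  rw [← Finset.mul_prod_erase Finset.univ _ (Finset.mem_univ i)]
  congr 1
  · simp [dn]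
  · refine Finset.prod_congr rfl fun j hj => ?_
    rw [dn, Function.update_of_ne (Finset.ne_of_mem_erase hj)]

variable [CharP A p]

/-- Frobenius coefficients of the derivative. -/
theorem D_sum (i : Fin c.n) (a : (Fin c.n → Fin p) → A) :
    c.D i (∑ e, a e ^ p * mon c.z e) =
      ∑ f, (if (f i : ℕ) + 1 < p then (((f i : ℕ) + 1 : ℕ) : A) * a (up i f) else 0) ^ p *
        mon c.z f := by
  classical
  have : ExpChar A p := ExpChar.prime hp.out
  have hcast : ∀ m : ℕ, (m : A) ^ p = m := fun m => by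
    rw [← frobenius_def, map_natCast]
  have h1 : ∀ e, c.D i (a e ^ p * mon c.z e) =
      if (e i : ℕ) ≠ 0 then (((e i : ℕ) : A) * a e) ^ p * mon c.z (dn i e) else 0 := by
    intro e
    rw [Derivation.leibniz, pow_const, smul_zero, add_zero, D_mon, smul_eq_mul]
    split_ifs with h
    · rw [mon_dn, mul_pow, hcast]
      ring
    · rw [not_not] at h
      rw [h, Nat.cast_zero]
      ring
  rw [map_sum, Finset.sum_congr rfl fun e _ => h1 e, ← Finset.sum_filter]
  have h2 : ∀ f : Fin c.n → Fin p,
      (if (f i : ℕ) + 1 < p then (((f i : ℕ) + 1 : ℕ) : A) * a (up i f) else 0) ^ p * mon c.z f =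
      if (f i : ℕ) + 1 < p then ((((f i : ℕ) + 1 : ℕ) : A) * a (up i f)) ^ p * mon c.z f else 0 := by
    intro f
    split_ifs with h
    · rfl
    · rw [zero_pow hp.out.ne_zero, zero_mul]
  rw [Finset.sum_congr rfl fun f _ => h2 f, ← Finset.sum_filter]
  refine Finset.sum_bij' (fun e _ => dn i e) (fun f _ => up i f) ?_ ?_ ?_ ?_ ?_
  · intro e he
    rw [Finset.mem_filter] at he ⊢
    refine ⟨Finset.mem_univ _, ?_⟩
    have := (e i).2
    simp only [dn, Function.update_self]
    omega
  · intro f hf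
    rw [Finset.mem_filter] at hf ⊢
    refine ⟨Finset.mem_univ _, ?_⟩
    simp only [up, Function.update_self]
    rw [if_pos hf.2]
    omega
  · intro e he
    exact up_dn i e (Finset.mem_filter.1 he).2
  · intro f hf
    exact dn_up i f (Finset.mem_filter.1 hf).2
  · intro e he
    have h3 := (Finset.mem_filter.1 he).2
    rw [up_dn i e h3]
    congr 3
    simp only [dn, Function.update_self]
    congr 1
    omega

omit [CharP A p] in
theorem coeff (a : A) : ∃ f : (Fin c.n → Fin p) → A, a = ∑ e, f e ^ p * mon c.z e := by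
  obtain ⟨f, hf⟩ := c.pb.2 a
  exact ⟨f, hf.symm⟩

omit hp [CharP A p] in
theorem coeff_ext {f g : (Fin c.n → Fin p) → A}
    (h : ∑ e, f e ^ p * mon c.z e = ∑ e, g e ^ p * mon c.z e) : f = g := c.pb.1 h

/-- The zero exponent. -/
def z0 (p : ℕ) [hp : Fact p.Prime] (n : ℕ) : Fin n → Fin p := fun _ => ⟨0, hp.out.pos⟩

omit [CharP A p] in
theorem mon_z0 : mon c.z (z0 p c.n) = 1 := by
  simp [mon, z0]

omit [CharP A p] in
theorem pow_eq_sum (b : A) :
    b ^ p = ∑ e, (if e = z0 p c.n then b else 0) ^ p * mon c.z e := by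
  classical
  rw [Finset.sum_eq_single (z0 p c.n)]
  · rw [if_pos rfl, mon_z0, mul_one]
  · intro e _ he
    rw [if_neg he, zero_pow hp.out.ne_zero, zero_mul]
  · intro h
    exact absurd (Finset.mem_univ _) h

include c in
omit [CharP A p] in
theorem dvd_of_pow_dvd {t b : A} (h : t ^ p ∣ b ^ p) : t ∣ b := by
  classical
  obtain ⟨h', hh⟩ := h
  obtain ⟨f, hf⟩ := c.coeff h'
  have h1 : ∑ e, (if e = z0 p c.n then b else 0) ^ p * mon c.z e =
      ∑ e, (t * f e) ^ p * mon c.z e := by
    rw [← pow_eq_sum, hh, hf, Finset.mul_sum]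
    exact Finset.sum_congr rfl fun e _ => by ring
  have h2 := congrFun (c.coeff_ext h1) (z0 p c.n)
  rw [if_pos rfl] at h2
  exact ⟨_, h2⟩

include c in
omit [CharP A p] in
theorem pow_injective_zero {b : A} (h : b ^ p = 0) : b = 0 := by
  have h1 : (0 : A) ^ p ∣ b ^ p := by rw [h]; exact dvd_zero _
  exact zero_dvd_iff.1 (c.dvd_of_pow_dvd h1)

/-- If all derivatives are divisible by `t ^ p`. -/
theorem exists_of_dvd {t u : A} (h : ∀ i, t ^ p ∣ c.D i u) : ∃ v w : A, u = v ^ p + t ^ p * w := by
  classical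
  have : ExpChar A p := ExpChar.prime hp.out
  obtain ⟨a, ha⟩ := c.coeff u
  have key : ∀ e, e ≠ z0 p c.n → t ∣ a e := by
    intro e he
    obtain ⟨i, hi⟩ : ∃ i, (e i : ℕ) ≠ 0 := by
      by_contra hcon
      push Not at hcon
      exact he (funext fun i => Fin.ext (hcon i))
    obtain ⟨w, hw⟩ := h i
    obtain ⟨f, hf⟩ := c.coeff w
    have h1 : ∑ e, (if (e i : ℕ) + 1 < p then (((e i : ℕ) + 1 : ℕ) : A) * a (up i e) else 0) ^ p *
        mon c.z e = ∑ e, (t * f e) ^ p * mon c.z e := by
      rw [← c.D_sum i a, ← ha, hw, hf, Finset.mul_sum]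
      exact Finset.sum_congr rfl fun e _ => by ring
    have h2 := congrFun (c.coeff_ext h1) (dn i e)
    have hlt := (e i).2
    have h3 : ((dn i e i : Fin p) : ℕ) + 1 = (e i : ℕ) := by
      simp only [dn, Function.update_self]
      omega
    rw [h3, if_pos hlt, up_dn i e hi] at h2
    -- `e i` is invertible
    obtain ⟨m, hm⟩ : ∃ m : ℕ, (m : A) * ((e i : ℕ) : A) = 1 := by
      have hcop : Nat.Coprime (e i : ℕ) p := by
        rw [Nat.coprime_comm, Nat.Prime.coprime_iff_not_dvd hp.out]
        exact fun hd => absurd (Nat.le_of_dvd (Nat.pos_of_ne_zero hi) hd) (not_le.2 hlt)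
      obtain ⟨m, -, hm⟩ := Nat.exists_mul_mod_eq_one_of_coprime hcop hp.out.one_lt
      refine ⟨m, ?_⟩
      rw [← Nat.cast_mul, mul_comm]
      have h4 := Nat.div_add_mod ((e i : ℕ) * m) p
      rw [hm] at h4
      rw [← h4, Nat.cast_add, Nat.cast_mul, CharP.cast_eq_zero, zero_mul, zero_add, Nat.cast_one]
    refine ⟨m * f (dn i e), ?_⟩
    calc a e = (m * ((e i : ℕ) : A)) * a e := by rw [hm, one_mul]
      _ = m * (((e i : ℕ) : A) * a e) := by ring
      _ = t * (m * f (dn i e)) := by rw [h2]; ring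
  choose! g hg using key
  refine ⟨a (z0 p c.n), ∑ e ∈ Finset.univ.erase (z0 p c.n), g e ^ p * mon c.z e, ?_⟩
  rw [ha, ← Finset.add_sum_erase _ _ (Finset.mem_univ (z0 p c.n)), mon_z0, mul_one, Finset.mul_sum]
  congr 1
  refine Finset.sum_congr rfl fun e he => ?_
  rw [hg e (Finset.ne_of_mem_erase he)]
  ring

/-- Constants are `p`-th powers. -/
theorem exists_pow_of_D {u : A} (h : ∀ i, c.D i u = 0) : ∃ v : A, u = v ^ p := by
  obtain ⟨v, w, hvw⟩ := c.exists_of_dvd (t := 0) (u := u) (fun i => by rw [h i]; exact dvd_zero _)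
  exact ⟨v, by rw [hvw, zero_pow hp.out.ne_zero, zero_mul, add_zero]⟩

omit hp in
theorem D_eq_zero_iff {u : A} :
    KaehlerDifferential.D ZZ.{u} A u = 0 ↔ ∀ i, c.D i u = 0 := by
  constructor
  · intro h i
    rw [D_apply, h, map_zero]
  · intro h
    rw [c.D_eq_sum, Finset.sum_eq_zero fun i _ => by rw [h i, zero_smul]]

include c in
/-- Constants divisible by `t ^ p` are `p`-th powers of multiples of `t`. -/
theorem exists_pow {t a : A} (ht : t ^ p ∣ a) (h : KaehlerDifferential.D ZZ.{u} A a = 0) :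
    ∃ b : A, a = (t * b) ^ p := by
  obtain ⟨v, hv⟩ := c.exists_pow_of_D (c.D_eq_zero_iff.1 h)
  rw [hv] at ht
  obtain ⟨b, hb⟩ := c.dvd_of_pow_dvd ht
  exact ⟨b, by rw [hv, hb]⟩

end Chart

section frame

open Groth.Agent.Lefpen.H725.Frame

/-- Derivations over the two versions of the integers. -/
def ofZZ {B : Type u} {M : Type v} [CommRing B] [AddCommGroup M] [Module B M] [Module ZZ.{u} M]
    (E : Derivation ZZ.{u} B M) : Derivation ℤ B M :=
  Derivation.mk' (AddMonoidHom.toIntLinearMap (E : B →ₗ[ZZ.{u}] M).toAddMonoidHom)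
    (fun a b => E.leibniz a b)

theorem ofZZ_apply {B : Type u} {M : Type v} [CommRing B] [AddCommGroup M] [Module B M]
    [Module ZZ.{u} M] (E : Derivation ZZ.{u} B M) (b : B) : ofZZ E b = E b := rfl

/-- Derivations over the two versions of the integers. -/
def toZZ {B : Type u} {M : Type v} [CommRing B] [AddCommGroup M] [Module B M] [Module ZZ.{u} M]
    [IsScalarTower ZZ.{u} B M] (E : Derivation ℤ B M) : Derivation ZZ.{u} B M :=
  Derivation.mk'
    { toFun := E
      map_add' := map_add E
      map_smul' := fun r b => by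
        rw [RingHom.id_apply, smul_eq B r b, smul_eq B r (E b)]
        exact map_zsmul E _ b } (fun a b => E.leibniz a b)

theorem toZZ_apply {B : Type u} {M : Type v} [CommRing B] [AddCommGroup M] [Module B M]
    [Module ZZ.{u} M] [IsScalarTower ZZ.{u} B M] (E : Derivation ℤ B M) (b : B) :
    toZZ E b = E b := rfl

variable (c : Chart p A) [CharP A p]

/-- A chart of a field gives a frame. -/
noncomputable def frame {Q : Type u} [Field Q] (c : Chart p Q) : Frame Q (Fin c.n) where
  z := c.z
  D i := ofZZ (c.D i)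
  dual i j := c.D_z i j
  sep E hE := by
    have h : toZZ E = 0 := c.ext_der _ _ fun i => (hE i).trans (Derivation.zero_apply _).symm
    ext x
    exact DFunLike.congr_fun h x

/-- Charts of fraction fields. -/
theorem exists_chartQ [IsDomain A] (Q : Type u) [Field Q] [CharP Q p] [Algebra A Q]
    [IsFractionRing A Q] : ∃ b : Module.Basis (Fin c.n) Q (Ω[Q⁄ZZ.{u}]),
      ∀ i, b i = KaehlerDifferential.D ZZ.{u} Q (algebraMap A Q (c.z i)) :=
  exists_basis (c.pb.fractionField Q)

/-- The chart of the fraction field. -/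
noncomputable def chartQ [IsDomain A] (Q : Type u) [Field Q] [CharP Q p] [Algebra A Q]
    [IsFractionRing A Q] : Chart p Q where
  n := c.n
  z i := algebraMap A Q (c.z i)
  pb := c.pb.fractionField Q
  b := (exists_chartQ c Q).choose
  hb := (exists_chartQ c Q).choose_spec

theorem isScalarTower_ZZ (B C : Type u) [CommRing B] [CommRing C] [Algebra B C] :
    IsScalarTower ZZ.{u} B C :=
  IsScalarTower.of_algebraMap_eq' (hom_ext _ _)

theorem chartQ_D [IsDomain A] (Q : Type u) [Field Q] [CharP Q p] [Algebra A Q]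
    [IsFractionRing A Q] (i : Fin c.n) (a : A) :
    (chartQ c Q).D i (algebraMap A Q a) = algebraMap A Q (c.D i a) := by
  have : IsScalarTower ZZ.{u} A Q := isScalarTower_ZZ A Q
  have h := c.ext_der (((chartQ c Q).D i).compAlgebraMap A)
    ((Algebra.linearMap A Q).compDer (c.D i)) (fun j => by
      change (chartQ c Q).D i ((chartQ c Q).z j) = algebraMap A Q (c.D i (c.z j))
      rw [Chart.D_z, Chart.D_z, apply_ite (algebraMap A Q), map_one, map_zero]
      rfl)
  exact DFunLike.congr_fun h a

/-- Localized differentials are generated by the coordinates. -/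
theorem span_localization {B : Type u} [CommRing B] [Algebra A B] (S : Submonoid A)
    [IsLocalization S B] :
    Submodule.span B (Set.range fun i => KaehlerDifferential.D ℤ B (algebraMap A B (c.z i))) = ⊤ := by
  rw [eq_top_iff, ← KaehlerDifferential.span_range_derivation, Submodule.span_le]
  -- the differentials of elements of `A`
  have h1 : ∀ a : A, KaehlerDifferential.D ℤ B (algebraMap A B a) ∈
      Submodule.span B (Set.range fun i => KaehlerDifferential.D ℤ B (algebraMap A B (c.z i))) := by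
    intro a
    let E0 : Derivation ℤ A (Ω[B⁄ℤ]) := (KaehlerDifferential.D ℤ B).compAlgebraMap A
    have htw : IsScalarTower ZZ.{u} A B := isScalarTower_ZZ A B
    have : IsScalarTower ZZ.{u} A (Ω[B⁄ℤ]) := ⟨fun r a m => by
      rw [← algebraMap_smul B r (a • m), ← algebraMap_smul B a m, smul_smul,
        ← algebraMap_smul B (r • a) m, Algebra.smul_def, map_mul, ← IsScalarTower.algebraMap_apply]⟩
    let E := toZZ E0
    have h2 : KaehlerDifferential.D ℤ B (algebraMap A B a) =
        E.liftKaehlerDifferential (KaehlerDifferential.D ZZ.{u} A a) :=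
      (Derivation.liftKaehlerDifferential_comp_D E a).symm
    rw [h2, c.D_eq_sum, map_sum]
    refine Submodule.sum_mem _ fun i _ => ?_
    rw [map_smul, c.hb, Derivation.liftKaehlerDifferential_comp_D, ← algebraMap_smul B]
    exact Submodule.smul_mem _ _ (Submodule.subset_span ⟨i, rfl⟩)
  rintro _ ⟨b, rfl⟩
  obtain ⟨a, s, rfl⟩ := IsLocalization.exists_mk'_eq S b
  have hs : IsUnit (algebraMap A B s) := IsLocalization.map_units B s
  have h2 : KaehlerDifferential.D ℤ B (IsLocalization.mk' B a s * algebraMap A B s) =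
      KaehlerDifferential.D ℤ B (algebraMap A B a) := by rw [IsLocalization.mk'_spec]
  rw [Derivation.leibniz] at h2
  have h3 : algebraMap A B s • KaehlerDifferential.D ℤ B (IsLocalization.mk' B a s) =
      KaehlerDifferential.D ℤ B (algebraMap A B a) -
        IsLocalization.mk' B a s • KaehlerDifferential.D ℤ B (algebraMap A B s) := by
    rw [← h2]
    abel
  obtain ⟨v, hv⟩ := hs
  have h4 : KaehlerDifferential.D ℤ B (IsLocalization.mk' B a s) =
      (↑v⁻¹ : B) • (KaehlerDifferential.D ℤ B (algebraMap A B a) -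
        IsLocalization.mk' B a s • KaehlerDifferential.D ℤ B (algebraMap A B s)) := by
    rw [← h3, smul_smul, ← hv, Units.inv_mul, one_smul]
  simp only [SetLike.mem_coe]
  rw [h4]
  exact Submodule.smul_mem _ _ (Submodule.sub_mem _ (h1 a) (Submodule.smul_mem _ _ (h1 s)))

theorem exists_dlog_aux [IsDomain A] (𝔭 : Ideal A) [𝔭.IsPrime] (B : Type u) [CommRing B]
    [IsDomain B] [Algebra A B] [IsLocalization.AtPrime B 𝔭] [UniqueFactorizationMonoid B]
    (Q : Type u) [Field Q] [CharP Q p] [Algebra A Q] [IsFractionRing A Q] [Algebra B Q]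
    [IsFractionRing B Q] [IsScalarTower A B Q] (a : Fin c.n → A) (g : A)
    (h : ∀ i, a i = a i ^ p * c.z i ^ (p - 1) + c.D i g) :
    ∃ x y : A, x ∉ 𝔭 ∧ y ∉ 𝔭 ∧ ∀ i, y * c.D i x - x * c.D i y = a i * (x * y) := by
  classical
  let cQ := chartQ c Q
  let F : Frame Q (Fin c.n) := frame cQ
  have hFz : ∀ i, F.z i = algebraMap A Q (c.z i) := fun _ => rfl
  have hFD : ∀ i (x : A), F.D i (algebraMap A Q x) = algebraMap A Q (c.D i x) := chartQ_D c Q
  let a' : Fin c.n → Q := fun i => algebraMap A Q (a i)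
  have ha' : ∀ i, a' i = a' i ^ p * F.z i ^ (p - 1) + F.D i (algebraMap A Q g) := by
    intro i
    change algebraMap A Q (a i) = algebraMap A Q (a i) ^ p * algebraMap A Q (c.z i) ^ (p - 1) + _
    rw [hFD]
    conv_lhs => rw [h i]
    simp only [map_add, map_mul, map_pow]
  have hcl : ∀ i j, F.D i (a' j) = F.D j (a' i) := by
    intro i j
    rw [ha' i, ha' j]
    simp only [map_add, Derivation.leibniz, Groth.Agent.Lefpen.H411.Cartier.pow_const,
      Derivation.leibniz_pow, F.dual,
      Groth.Agent.Lefpen.H411.Cartier.comm F i j]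
    by_cases hij : i = j
    · subst hij
      rfl
    · rw [if_neg hij, if_neg (Ne.symm hij)]
      simp
  have hC : ∀ i, (F.D i)^[p - 1] (a' i) = - (a' i) ^ p := by
    intro i
    conv_lhs => rw [ha' i]
    exact Groth.Agent.Lefpen.H411.Cartier.coeff F p _ _ i
  obtain ⟨f, hf, hf2⟩ := Groth.Agent.Lefpen.H411.Cartier.exists_dlog F p a' hcl hC
  -- the local ring
  have hBQ : ∀ x : A, algebraMap B Q (algebraMap A B x) = algebraMap A Q x := fun x =>
    (IsScalarTower.algebraMap_apply A B Q x).symm
  have hne : ∀ s : A, s ∉ 𝔭 → algebraMap A Q s ≠ 0 := by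
    intro s hs
    rw [Ne, ← map_zero (algebraMap A Q)]
    intro h0
    have : (s : A) = 0 := IsFractionRing.injective A Q h0
    exact hs (by rw [this]; exact 𝔭.zero_mem)
  obtain ⟨u, w, hw, hfu⟩ := Groth.Agent.Lefpen.H411.Regular.exists_unit_mul_pow F p
    (fun i => algebraMap A B (c.z i)) (fun i => hBQ _) (by
      intro i b
      obtain ⟨x, s, rfl⟩ := IsLocalization.exists_mk'_eq 𝔭.primeCompl b
      have hs0 : algebraMap A Q s ≠ 0 := hne s s.2
      refine ⟨IsLocalization.mk' B (s * c.D i x - x * c.D i s) (s * s), ?_⟩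
      have e1 : ∀ (y : A) (r : 𝔭.primeCompl), algebraMap A Q r ≠ 0 →
          algebraMap B Q (IsLocalization.mk' B y r) = algebraMap A Q y / algebraMap A Q r := by
        intro y r hr
        rw [eq_div_iff hr, ← hBQ, ← hBQ, ← map_mul, IsLocalization.mk'_spec]
      rw [e1 x s hs0, e1 _ (s * s) (by
        rw [Submonoid.coe_mul, map_mul]
        exact mul_ne_zero hs0 hs0), Derivation.leibniz_div, hFD, hFD, Submonoid.coe_mul]
      simp only [map_sub, map_mul, smul_eq_mul]
      field_simp) (span_localization c 𝔭.primeCompl) f hf (by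
      intro i
      exact ⟨algebraMap A B (a i), by rw [hBQ, hf2 i, mul_div_cancel_right₀ _ hf]⟩)
  obtain ⟨x, s, hxs⟩ := IsLocalization.exists_mk'_eq 𝔭.primeCompl (u : B)
  have hxp : x ∉ 𝔭 := by
    have h1 : IsUnit (algebraMap A B x) := by
      rw [← IsLocalization.mk'_spec B x s, hxs]
      exact u.isUnit.mul (IsLocalization.map_units B s)
    intro hx
    have h2 := (IsLocalization.AtPrime.isUnit_to_map_iff B 𝔭 x).1 h1
    exact h2 hx
  refine ⟨x, s, hxp, s.2, fun i => ?_⟩
  apply IsFractionRing.injective A Q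
  have hs0 : algebraMap A Q s ≠ 0 := hne s s.2
  have hx0 : algebraMap A Q x ≠ 0 := hne x hxp
  have hfx : f = algebraMap A Q x / algebraMap A Q s * w ^ p := by
    rw [hfu, ← hxs]
    congr 1
    rw [eq_div_iff hs0, ← hBQ, ← hBQ, ← map_mul, IsLocalization.mk'_spec]
  have h1 := hf2 i
  have hsub : F.D i (w ^ p) = 0 := Groth.Agent.Lefpen.H411.Cartier.pow_const p (F.D i) w
  rw [hfx, Derivation.leibniz, hsub, smul_zero, zero_add, Derivation.leibniz_div, hFD, hFD] at h1
  have hwp : w ^ p ≠ 0 := pow_ne_zero _ hw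
  simp only [smul_eq_mul, map_sub, map_mul] at h1 ⊢
  have h2 : a' i = algebraMap A Q (a i) := rfl
  rw [← h2]
  field_simp at h1
  linear_combination h1

/-- A form `Σ a_i dz_i` with `a_i = a_i ^ p z_i ^ (p-1) + D_i g` is logarithmic near `𝔭`. -/
theorem exists_dlog [IsDomain A] (𝔭 : Ideal A) [𝔭.IsPrime]
    [UniqueFactorizationMonoid (Localization.AtPrime 𝔭)] (a : Fin c.n → A) (g : A)
    (h : ∀ i, a i = a i ^ p * c.z i ^ (p - 1) + c.D i g) :
    ∃ x y : A, x ∉ 𝔭 ∧ y ∉ 𝔭 ∧ ∀ i, y * c.D i x - x * c.D i y = a i * (x * y) := by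
  have hQ : CharP (FractionRing A) p :=
    charP_of_injective_algebraMap (IsFractionRing.injective A (FractionRing A)) p
  have hdomB : IsDomain (Localization.AtPrime 𝔭) :=
    IsLocalization.isDomain_localization (Ideal.primeCompl_le_nonZeroDivisors 𝔭)
  exact exists_dlog_aux c 𝔭 (Localization.AtPrime 𝔭) (FractionRing A) a g h

end frame

end K951.PForm
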