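import Groth.Agent.Dix.K951.PForm
import Mathlib.RingTheory.AdjoinRoot
import Mathlib.RingTheory.Etale.Basic
import Mathlib.RingTheory.RingHom.Etale
import Mathlib.FieldTheory.IsAlgClosed.AlgebraicClosure
import Mathlib.RingTheory.LocalRing.ResidueField.Ideal

/-!
# The operator `1 - C⁻¹` relative to a principal ideal

`A` is a ring of characteristic `p` with a chart, `t : A`.  For `η : Ω[A⁄ℤ]` and a representative
`γ` of the inverse Cartier transform of `η`, `t • η - t ^ p • γ` is well defined modulo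
`d (t ^ p A)`.
* `phi_indep` : independence of the choices;
* `exists_dlog_of_phi` : its kernel consists of logarithmic forms, locally;
* `phi_dlog` : it kills the logarithmic forms `du/u`, `u ∈ 1 + t ^ p A`;
* `phi_solve`, `exists_as` : it is surjective locally for the étale topology.
-/

set_option autoImplicit false
set_option linter.unusedSectionVars false
universe u v w

namespace K951.PLog

open K951.PChart K951.PForm K675.PBasis K852.Cartier
open scoped K951.PChart

variable {p : ℕ} [hp : Fact p.Prime] {A : Type u} [CommRing A] [CharP A p]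

theorem cinv_smul (a : A) (x : Ω[A⁄ZZ.{u}]) :
    cinv p ZZ.{u} A (a • x) = a • cinv p ZZ.{u} A x := LinearMap.map_smul _ a x

/-- The inverse Cartier transform in coordinates. -/
noncomputable def gam (c : Chart p A) (η : Ω[A⁄ZZ.{u}]) : Ω[A⁄ZZ.{u}] :=
  ∑ i, (c.b.repr η i ^ p * c.z i ^ (p - 1)) • c.b i

theorem mk_gam (c : Chart p A) (η : Ω[A⁄ZZ.{u}]) :
    mk p ZZ.{u} A (gam c η) = cinv p ZZ.{u} A η := by
  conv_rhs => rw [← c.b.sum_repr η]
  rw [gam, map_sum, map_sum]
  refine Finset.sum_congr rfl fun i _ => ?_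
  rw [cinv_smul, c.hb, cinv_D, smul_mk, smul_smul]

theorem repr_gam (c : Chart p A) (η : Ω[A⁄ZZ.{u}]) (i : Fin c.n) :
    c.b.repr (gam c η) i = c.b.repr η i ^ p * c.z i ^ (p - 1) := by
  rw [gam, c.b.repr_sum_self]

theorem smul_inj [IsDomain A] (c : Chart p A) {t : A} (ht : t ≠ 0) {x y : Ω[A⁄ZZ.{u}]}
    (h : t • x = t • y) : x = y := by
  apply c.b.repr.injective
  ext i
  have h1 := congrArg (fun w => c.b.repr w i) h
  simp only [map_smul, Finsupp.smul_apply, smul_eq_mul] at h1
  exact mul_left_cancel₀ ht h1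

/-- Independence of the choices. -/
theorem phi_indep [IsDomain A] (c : Chart p A) {t t' v : A} (ht : t ≠ 0) (hv : t' = v * t)
    {η η' γ γ' : Ω[A⁄ZZ.{u}]} (h : t • η = t' • η') (hγ : mk p ZZ.{u} A γ = cinv p ZZ.{u} A η)
    (hγ' : mk p ZZ.{u} A γ' = cinv p ZZ.{u} A η') :
    ∃ g : A, (t • η - t ^ p • γ) - (t' • η' - t' ^ p • γ') =
      KaehlerDifferential.D ZZ.{u} A (t ^ p * g) := by
  have h1 : η = v • η' := by
    apply smul_inj c ht
    rw [h, hv, smul_smul, mul_comm]
  have h2 : mk p ZZ.{u} A (v ^ p • γ' - γ) = 0 := by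
    rw [map_sub, hγ, h1, cinv_smul, ← hγ', smul_mk, sub_self]
  obtain ⟨g, hg⟩ := mk_eq_zero_iff.1 h2
  replace hg : KaehlerDifferential.D ZZ.{u} A g = v ^ p • γ' - γ := hg
  refine ⟨g, ?_⟩
  rw [← pow_smul_D, hg, h, smul_sub, hv, mul_pow, smul_smul, mul_comm (v ^ p)]
  abel

/-- The kernel: logarithmic forms. -/
theorem exists_dlog_of_phi [IsDomain A] (c : Chart p A) {t : A} {η γ : Ω[A⁄ZZ.{u}]}
    (hγ : mk p ZZ.{u} A γ = cinv p ZZ.{u} A η) {g : A}
    (h : t • η - t ^ p • γ = KaehlerDifferential.D ZZ.{u} A (t ^ p * g)) :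
    (∃ θ : Ω[A⁄ZZ.{u}], t • η = t ^ p • θ) ∧
    ∀ (𝔭 : Ideal A) [𝔭.IsPrime] [UniqueFactorizationMonoid (Localization.AtPrime 𝔭)],
      ∃ x y : A, x ∉ 𝔭 ∧ y ∉ 𝔭 ∧
        y • KaehlerDifferential.D ZZ.{u} A x - x • KaehlerDifferential.D ZZ.{u} A y =
          (x * y) • (t • η) := by
  have h0 : mk p ZZ.{u} A (γ - gam c η) = 0 := by rw [map_sub, hγ, mk_gam, sub_self]
  obtain ⟨g', hg'⟩ := mk_eq_zero_iff.1 h0
  replace hg' : KaehlerDifferential.D ZZ.{u} A g' = γ - gam c η := hg'
  have h1 : t • η = t ^ p • gam c η + KaehlerDifferential.D ZZ.{u} A (t ^ p * (g + g')) := by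
    have h2 : t • η = t ^ p • γ + KaehlerDifferential.D ZZ.{u} A (t ^ p * g) := by
      rw [← h]
      abel
    rw [h2, mul_add, map_add, ← pow_smul_D t g', hg', smul_sub]
    abel
  refine ⟨⟨gam c η + KaehlerDifferential.D ZZ.{u} A (g + g'), ?_⟩, ?_⟩
  · rw [smul_add, pow_smul_D, ← h1]
  · intro 𝔭 _ _
    obtain ⟨x, y, hx, hy, hxy⟩ := exists_dlog c 𝔭 (fun i => c.b.repr (t • η) i)
      (t ^ p * (g + g')) (fun i => by
        conv_lhs => rw [h1]
        rw [map_add, Finsupp.add_apply, map_smul, Finsupp.smul_apply, repr_gam, map_smul,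
          Finsupp.smul_apply, smul_eq_mul, smul_eq_mul, mul_pow, ← mul_assoc]
        rfl)
    refine ⟨x, y, hx, hy, ?_⟩
    apply c.b.repr.injective
    ext i
    have h3 := hxy i
    simp only [map_sub, map_smul, Finsupp.sub_apply, Finsupp.smul_apply, smul_eq_mul] at h3 ⊢
    have h4 : ∀ w : A, c.b.repr (KaehlerDifferential.D ZZ.{u} A w) i = c.D i w := fun w => rfl
    rw [h4, h4, h3]
    ring

/-- A version of `K852.Cartier.exists_add` with divisibility. -/
theorem exists_add_dvd {R B M : Type*} [CommRing R] [CommRing B] [Algebra R B] [AddCommGroup M]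
    [Module R M] [Module B M] (p : ℕ) (hp : p.Prime) (D : Derivation R B M) (g h : B) :
    ∃ φ : B, (g + h) ^ (p - 1) • D (g + h) = g ^ (p - 1) • D g + h ^ (p - 1) • D h +
      D (h * φ) := by
  obtain ⟨n, rfl⟩ : ∃ n, p = n + 1 := ⟨p - 1, (Nat.succ_pred_eq_of_pos hp.pos).symm⟩
  simp only [Nat.add_sub_cancel]
  have hdvd : ∀ i < n, ∃ c : ℕ, (n + 1).choose (i + 1) = (n + 1) * c := fun i hi =>
    Nat.Prime.dvd_choose_self hp (Nat.succ_ne_zero i) (Nat.succ_lt_succ hi)
  choose! c hc using hdvd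
  have h1 : ∀ i < n, c i * (i + 1) = n.choose i := by
    intro i hi
    have h := Nat.add_one_mul_choose_eq n i
    rw [hc i hi, mul_assoc] at h
    exact (Nat.eq_of_mul_eq_mul_left (Nat.succ_pos n) h).symm
  have h2 : ∀ i < n, c i * (n - i) = n.choose (i + 1) := by
    intro i hi
    have h := Nat.choose_mul_succ_eq n (i + 1)
    rw [Nat.add_sub_add_right, hc i hi, mul_comm, mul_assoc] at h
    exact (Nat.eq_of_mul_eq_mul_left (Nat.succ_pos n) h).symm
  have e1 : (g + h) ^ n = ∑ i ∈ Finset.range n, (n.choose i : B) * (g ^ i * h ^ (n - i)) + g ^ n := by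
    rw [add_pow, Finset.sum_range_succ]
    congr 1
    · refine Finset.sum_congr rfl fun i _ => by ring
    · simp
  have e2 : (g + h) ^ n = ∑ i ∈ Finset.range n,
      (n.choose (i + 1) : B) * (g ^ (i + 1) * h ^ (n - i - 1)) + h ^ n := by
    rw [add_pow, Finset.sum_range_succ']
    congr 1
    · refine Finset.sum_congr rfl fun i _ => ?_
      rw [Nat.sub_sub]; ring
    · simp
  have e0 : h * (∑ i ∈ Finset.range n, (c i : B) * (g ^ (i + 1) * h ^ (n - i - 1))) =
      ∑ i ∈ Finset.range n, (c i : B) * (g ^ (i + 1) * h ^ (n - i)) := by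
    rw [Finset.mul_sum]
    refine Finset.sum_congr rfl fun i hi => ?_
    have hi := Finset.mem_range.mp hi
    have h3 : n - i = (n - i - 1) + 1 := by omega
    conv_rhs => rw [h3, pow_succ]
    ring
  refine ⟨∑ i ∈ Finset.range n, (c i : B) * (g ^ (i + 1) * h ^ (n - i - 1)), ?_⟩
  rw [e0]
  have e3 : D (∑ i ∈ Finset.range n, (c i : B) * (g ^ (i + 1) * h ^ (n - i))) =
      (∑ i ∈ Finset.range n, (n.choose i : B) * (g ^ i * h ^ (n - i))) • D g +
      (∑ i ∈ Finset.range n, (n.choose (i + 1) : B) * (g ^ (i + 1) * h ^ (n - i - 1))) • D h := by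
    rw [map_sum, Finset.sum_smul, Finset.sum_smul, ← Finset.sum_add_distrib]
    refine Finset.sum_congr rfl fun i hi => ?_
    have hi := Finset.mem_range.mp hi
    rw [Derivation.leibniz, Derivation.map_natCast, smul_zero, add_zero, Derivation.leibniz,
      Derivation.leibniz_pow, Derivation.leibniz_pow, Nat.add_sub_cancel, smul_add, add_comm]
    congr 1
    · rw [← h1 i hi, ← Nat.cast_smul_eq_nsmul B, smul_smul, smul_smul, smul_smul]
      congr 1
      push_cast
      ring
    · rw [← h2 i hi, ← Nat.cast_smul_eq_nsmul B, smul_smul, smul_smul, smul_smul]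
      congr 1
      push_cast
      ring
  rw [e3, map_add, smul_add]
  have e1' := congrArg (fun x => x • D g) e1
  have e2' := congrArg (fun x => x • D h) e2
  simp only [add_smul] at e1' e2'
  rw [e1', e2']
  abel

/-- Logarithmic forms of units congruent to one are killed. -/
theorem phi_dlog {t h : A} (u : Aˣ) (hu : (u : A) = 1 + t ^ p * h) :
    ∃ η γ : Ω[A⁄ZZ.{u}], (↑u⁻¹ : A) • KaehlerDifferential.D ZZ.{u} A u = t • η ∧
      mk p ZZ.{u} A γ = cinv p ZZ.{u} A η ∧
      ∃ g : A, t • η - t ^ p • γ = KaehlerDifferential.D ZZ.{u} A (t ^ p * g) := by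
  obtain ⟨m, hm⟩ : ∃ m, p = m + 1 := ⟨p - 1, (Nat.succ_pred_eq_of_pos hp.out.pos).symm⟩
  have hpm : p - 1 = m := by omega
  have hdu : KaehlerDifferential.D ZZ.{u} A (u : A) = t ^ p • KaehlerDifferential.D ZZ.{u} A h := by
    rw [hu, map_add, Derivation.map_one_eq_zero, zero_add, pow_smul_D]
  let η : Ω[A⁄ZZ.{u}] := (t ^ m * (↑u⁻¹ : A)) • KaehlerDifferential.D ZZ.{u} A h
  let γ : Ω[A⁄ZZ.{u}] := (t ^ m * (↑u⁻¹ : A)) ^ p • (h ^ (p - 1) • KaehlerDifferential.D ZZ.{u} A h)
  refine ⟨η, γ, ?_, ?_, ?_⟩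
  · rw [hdu, smul_smul, smul_smul]
    congr 1
    conv_lhs => rw [hm, pow_succ]
    ring
  · change _ = cinv p ZZ.{u} A ((t ^ m * (↑u⁻¹ : A)) • KaehlerDifferential.D ZZ.{u} A h)
    rw [cinv_smul, cinv_D, smul_mk]
  · obtain ⟨φ, hφ⟩ := exists_add_dvd p hp.out (KaehlerDifferential.D ZZ.{u} A) 1 (t ^ p * h)
    rw [← hu, one_pow, Derivation.map_one_eq_zero, smul_zero, zero_add] at hφ
    -- `u ^ (p-1) du - H ^ (p-1) dH = d (H φ)`
    refine ⟨(↑u⁻¹ : A) ^ p * (h * φ), ?_⟩
    have h1 : KaehlerDifferential.D ZZ.{u} A (t ^ p * ((↑u⁻¹ : A) ^ p * (h * φ))) =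
        (↑u⁻¹ : A) ^ p • KaehlerDifferential.D ZZ.{u} A (t ^ p * h * φ) := by
      rw [pow_smul_D]
      congr 1
      ring
    have h2 : KaehlerDifferential.D ZZ.{u} A (t ^ p * h * φ) =
        (u : A) ^ (p - 1) • KaehlerDifferential.D ZZ.{u} A (u : A) -
          (t ^ p * h) ^ (p - 1) • KaehlerDifferential.D ZZ.{u} A (t ^ p * h) := by
      rw [hφ]
      abel
    have h3 : KaehlerDifferential.D ZZ.{u} A (t ^ p * h) =
        t ^ p • KaehlerDifferential.D ZZ.{u} A h := (pow_smul_D t h).symm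
    have hs1 : t * (t ^ m * (↑u⁻¹ : A)) = (↑u⁻¹ : A) ^ p * ((u : A) ^ (p - 1) * t ^ p) := by
      have h4 : (↑u⁻¹ : A) ^ p * (u : A) ^ (p - 1) = (↑u⁻¹ : A) := by
        rw [hpm]
        conv_lhs => rw [hm]
        rw [pow_succ, mul_assoc, mul_comm (↑u⁻¹ : A), ← mul_assoc, ← mul_pow, Units.inv_mul,
          one_pow, one_mul]
      have h6 : t ^ p = t ^ m * t := by rw [hm, pow_succ]
      rw [← mul_assoc ((↑u⁻¹ : A) ^ p), h4, h6]
      ring
    have hs2 : t ^ p * ((t ^ m * (↑u⁻¹ : A)) ^ p * h ^ (p - 1)) =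
        (↑u⁻¹ : A) ^ p * ((t ^ p * h) ^ (p - 1) * t ^ p) := by
      rw [hpm, mul_pow, mul_pow, ← pow_mul, ← pow_mul, mul_comm m p]
      ring
    change t • ((t ^ m * (↑u⁻¹ : A)) • KaehlerDifferential.D ZZ.{u} A h) -
      t ^ p • ((t ^ m * (↑u⁻¹ : A)) ^ p • (h ^ (p - 1) • KaehlerDifferential.D ZZ.{u} A h)) = _
    rw [h1, h2, hdu, h3]
    simp only [smul_sub, smul_smul]
    rw [hs1, hs2]

/-- Solving the equation. -/
theorem phi_solve (c : Chart p A) (t : A) (θ : Ω[A⁄ZZ.{u}]) (β : Fin c.n → A)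
    (hβ : ∀ i, β i - (t ^ (p - 1) * c.z i ^ (p - 1)) * β i ^ p = c.b.repr θ i) :
    ∃ η γ : Ω[A⁄ZZ.{u}], mk p ZZ.{u} A γ = cinv p ZZ.{u} A η ∧ t • η - t ^ p • γ = t • θ := by
  obtain ⟨m, hm⟩ : ∃ m, p = m + 1 := ⟨p - 1, (Nat.succ_pred_eq_of_pos hp.out.pos).symm⟩
  have hpm : p - 1 = m := by omega
  let η : Ω[A⁄ZZ.{u}] := ∑ i, β i • c.b i
  have hη : ∀ i, c.b.repr η i = β i := fun i => by
    rw [c.b.repr_sum_self]
  refine ⟨η, gam c η, mk_gam c η, ?_⟩
  apply c.b.repr.injective
  ext i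
  simp only [map_sub, map_smul, Finsupp.sub_apply, Finsupp.smul_apply, smul_eq_mul, repr_gam, hη]
  have h6 : t ^ p = t ^ m * t := by rw [hm, pow_succ]
  rw [← hβ i, hpm, h6]
  ring

/-! ### The Artin–Schreier algebras -/

section AS

open Polynomial

variable {B : Type u} [CommRing B]

/-- The polynomial `X - c X ^ p - α`. -/
noncomputable def asPoly (p : ℕ) (c α : B) : B[X] := X - C c * X ^ p - C α

theorem eval₂_asPoly (c α : B) {R : Type v} [CommRing R] (f : B →+* R) (x : R) :
    (asPoly p c α).eval₂ f x = x - f c * x ^ p - f α := by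
  simp [asPoly]

theorem add_pow_sq (R : Type v) [CommRing R] (hR : (p : R) = 0) (x e : R) (he : e * e = 0) :
    (x + e) ^ p = x ^ p := by
  obtain ⟨k, hk⟩ := Polynomial.powAddExpansion x e p
  rw [hk, hR, pow_two, he]
  ring

theorem etale_as (hB : (p : B) = 0) (c α : B) : Algebra.Etale B (AdjoinRoot (asPoly p c α)) := by
  have h : Algebra.FormallyEtale B (AdjoinRoot (asPoly p c α)) := by
    rw [Algebra.FormallyEtale.iff_comp_bijective]
    intro R _ _ I hI
    have hR : (p : R) = 0 := by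
      rw [← map_natCast (algebraMap B R), hB, map_zero]
    have hsq : ∀ e ∈ I, e * e = 0 := fun e he => by
      have h1 : e * e ∈ I ^ 2 := by
        rw [pow_two]
        exact Ideal.mul_mem_mul he he
      rw [hI] at h1
      exact h1
    have hroot : ∀ g : AdjoinRoot (asPoly p c α) →ₐ[B] R,
        g (AdjoinRoot.root _) - algebraMap B R c * g (AdjoinRoot.root _) ^ p - algebraMap B R α
          = 0 := by
      intro g
      have h1 := AdjoinRoot.eval₂_root (asPoly p c α)
      rw [eval₂_asPoly] at h1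
      have h2 := congrArg g h1
      rw [map_sub, map_sub, map_mul, map_pow, map_zero] at h2
      have h3 : ∀ b : B, g (AdjoinRoot.of (asPoly p c α) b) = algebraMap B R b :=
        fun b => g.commutes b
      rw [h3, h3] at h2
      exact h2
    constructor
    · intro g₁ g₂ hg
      apply AdjoinRoot.algHom_ext
      have h1 : g₁ (AdjoinRoot.root _) - g₂ (AdjoinRoot.root _) ∈ I := by
        rw [← Ideal.Quotient.eq]
        exact DFunLike.congr_fun hg (AdjoinRoot.root _)
      have h2 := add_pow_sq R hR (g₂ (AdjoinRoot.root _)) _ (hsq _ h1)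
      rw [add_sub_cancel] at h2
      have h3 := hroot g₁
      have h4 := hroot g₂
      rw [h2] at h3
      rw [← sub_eq_zero]
      linear_combination h3 - h4
    · intro g
      obtain ⟨x, hx⟩ := Ideal.Quotient.mk_surjective (g (AdjoinRoot.root _))
      let y : R := x - algebraMap B R c * x ^ p - algebraMap B R α
      have hy : y ∈ I := by
        rw [← Ideal.Quotient.eq_zero_iff_mem]
        have h1 := AdjoinRoot.eval₂_root (asPoly p c α)
        rw [eval₂_asPoly] at h1
        have h2 := congrArg g h1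
        rw [map_sub, map_sub, map_mul, map_pow, map_zero] at h2
        have h3 : ∀ b : B, g (AdjoinRoot.of (asPoly p c α) b) =
            Ideal.Quotient.mk I (algebraMap B R b) := fun b => g.commutes b
        rw [h3, h3, ← hx, ← map_pow, ← map_mul, ← map_sub, ← map_sub] at h2
        exact h2
      have hx' : (x - y) - algebraMap B R c * (x - y) ^ p - algebraMap B R α = 0 := by
        have h1 := add_pow_sq R hR x (-y) (by rw [neg_mul_neg]; exact hsq y hy)
        rw [← sub_eq_add_neg] at h1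
        rw [h1]
        change (x - (x - algebraMap B R c * x ^ p - algebraMap B R α)) -
          algebraMap B R c * x ^ p - algebraMap B R α = 0
        ring
      have hev : (asPoly p c α).eval₂ (Algebra.ofId B R : B →ₐ[B] R) (x - y) = 0 := by
        rw [← hx']
        exact eval₂_asPoly c α _ _
      refine ⟨AdjoinRoot.liftAlgHom _ (Algebra.ofId B R) (x - y) hev, ?_⟩
      apply AdjoinRoot.algHom_ext
      change Ideal.Quotient.mk I (AdjoinRoot.liftAlgHom _ (Algebra.ofId B R) (x - y) hev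
          (AdjoinRoot.root _)) = _
      rw [AdjoinRoot.liftAlgHom_root, map_sub, hx, Ideal.Quotient.eq_zero_iff_mem.2 hy, sub_zero]
  have h2 : Algebra.FinitePresentation B (AdjoinRoot (asPoly p c α)) := inferInstance
  exact ⟨h, h2⟩

theorem surjective_as (c α : B) :
    Function.Surjective (PrimeSpectrum.comap (algebraMap B (AdjoinRoot (asPoly p c α)))) := by
  intro x
  let K := AlgebraicClosure x.asIdeal.ResidueField
  let f : B →+* K := (algebraMap x.asIdeal.ResidueField K).comp
    (algebraMap B x.asIdeal.ResidueField)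
  have hker : RingHom.ker f = x.asIdeal := by
    rw [RingHom.ker_comp_of_injective _ (algebraMap x.asIdeal.ResidueField K).injective]
    exact Ideal.ker_algebraMap_residueField x.asIdeal
  have hdeg : ((asPoly p c α).map f).degree ≠ 0 := by
    intro h0
    have h1 : ((asPoly p c α).map f).coeff 1 = 1 := by
      have hp1 : (1 : ℕ) ≠ p := hp.out.one_lt.ne
      simp [asPoly, coeff_X_pow, hp1, coeff_C]
    have h2 := coeff_eq_zero_of_degree_lt (n := 1) (lt_of_eq_of_lt h0 (by norm_num))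
    rw [h1] at h2
    exact one_ne_zero h2
  obtain ⟨y, hy⟩ := IsAlgClosed.exists_root _ hdeg
  have hy' : (asPoly p c α).eval₂ f y = 0 := by
    rw [eval₂_eq_eval_map]
    exact hy
  let g : AdjoinRoot (asPoly p c α) →+* K := AdjoinRoot.lift f y hy'
  have hg : g.comp (algebraMap B _) = f := AdjoinRoot.lift_comp_of hy'
  refine ⟨⟨RingHom.ker g, RingHom.ker_isPrime g⟩, ?_⟩
  apply PrimeSpectrum.ext
  change Ideal.comap (algebraMap B (AdjoinRoot (asPoly p c α))) (RingHom.ker g) = x.asIdeal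
  rw [RingHom.comap_ker, hg, hker]

/-- Étale surjective solution of finitely many equations `β - c β ^ p = α`. -/
theorem exists_as (hB : (p : B) = 0) (n : ℕ) (c α : Fin n → B) :
    ∃ (R : Type u) (_ : CommRing R) (f : B →+* R) (β : Fin n → R), f.Etale ∧
      Function.Surjective (PrimeSpectrum.comap f) ∧
        ∀ i, β i - f (c i) * β i ^ p = f (α i) := by
  induction n with
  | zero => exact ⟨B, inferInstance, RingHom.id B, Fin.elim0,
      RingHom.Etale.of_bijective Function.bijective_id, fun x => ⟨x, rfl⟩, fun i => i.elim0⟩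
  | succ n ih =>
    obtain ⟨R, _, f, β, hf, hs, hβ⟩ := ih (fun i => c i.succ) (fun i => α i.succ)
    have hR : (p : R) = 0 := by rw [← map_natCast f, hB, map_zero]
    let S := AdjoinRoot (asPoly p (f (c 0)) (f (α 0)))
    have h1 : Algebra.Etale R S := etale_as hR _ _
    have h2 := surjective_as (p := p) (f (c 0)) (f (α 0))
    let g : R →+* S := algebraMap R S
    have hg : g.Etale := RingHom.etale_algebraMap.2 h1
    refine ⟨S, inferInstance, g.comp f, Fin.cons (AdjoinRoot.root _) (fun i => g (β i)),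
      K675.EtalePB.etale_comp f g hf hg, ?_, ?_⟩
    · intro x
      obtain ⟨y, rfl⟩ := hs x
      obtain ⟨z, rfl⟩ := h2 y
      exact ⟨z, rfl⟩
    · intro i
      refine Fin.cases ?_ (fun i => ?_) i
      · rw [Fin.cons_zero]
        have h3 := AdjoinRoot.eval₂_root (asPoly p (f (c 0)) (f (α 0)))
        rw [eval₂_asPoly, sub_eq_zero] at h3
        exact h3
      · rw [Fin.cons_succ]
        have h3 := congrArg g (hβ i)
        rw [map_sub, map_mul, map_pow] at h3
        exact h3

end AS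

end K951.PLog
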