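import Groth.Agent.Dix.K951.Maps

/-!
# The operator `1 - C⁻¹` on the étale site

`S := coker (d : K p ⟶ Q)` and `phi : Q ⟶ S`, `t • η ↦ t • η - t ^ p • γ` for `γ` a representative
of the inverse Cartier transform of `η`.
-/

set_option autoImplicit false
set_option linter.unusedSectionVars false

universe u

open CategoryTheory CategoryTheory.Limits AlgebraicGeometry Opposite

namespace K951.Phi

open Groth.Agent Groth.Agent.Etbase Groth.Agent.Etbc.H212.ASClosed Groth.Agent.Etbc.H212.KQC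
open K951.PChart K951.PForm K951.OmegaP K951.AffSheaf K951.Shv K951.GoodBase K951.Maps K951.PLog
open K852.Cartier
open scoped K951.PChart

variable {X : Scheme.{u}}

/-- `γ` represents the inverse Cartier transform of `η`. -/
def Rel (p : ℕ) [Fact p.Prime] {A : Type u} [CommRing A] [CharP A p] (η γ : Ω[A⁄ZZ.{u}]) : Prop :=
  mk p ZZ.{u} A γ = cinv p ZZ.{u} A η

theorem rel_add (p : ℕ) [Fact p.Prime] {A : Type u} [CommRing A] [CharP A p]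
    {η γ η' γ' : Ω[A⁄ZZ.{u}]} (h : Rel p η γ) (h' : Rel p η' γ') : Rel p (η + η') (γ + γ') := by
  unfold Rel at h h' ⊢
  rw [map_add, map_add, h, h']

theorem exists_rel (p : ℕ) [Fact p.Prime] {A : Type u} [CommRing A] [CharP A p]
    (η : Ω[A⁄ZZ.{u}]) : ∃ γ, Rel p η γ := mk_surjective _

theorem rel_map (p : ℕ) [Fact p.Prime] {U V : X.Etale} [CharP Γ(U.left, ⊤) p]
    [CharP Γ(V.left, ⊤) p] (g : V ⟶ U) {η γ : Ω[Γ(U.left, ⊤)⁄ZZ.{u}]} (h : Rel p η γ) :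
    Rel p (mapΩ g η) (mapΩ g γ) := by
  let := g.left.appTop.hom.toAlgebra
  have := K951.PForm.isScalarTower_ZZ Γ(U.left, ⊤) Γ(V.left, ⊤)
  have h1 := congrArg (nmap p ZZ.{u} Γ(U.left, ⊤) Γ(V.left, ⊤)) h
  rw [nmap_mk, nmap_cinv] at h1
  exact h1

section

variable (p : ℕ) [hp : Fact p.Prime] (𝓘 : X.IdealSheafData) [hG : IsBase (Good p 𝓘)]

/-- Forms modulo the differentials of `K p`. -/
noncomputable def S : EtCoh.Ab X := cokernel (d p 𝓘)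

/-- The projection. -/
noncomputable def pi : Q (jn 𝓘 1) ⟶ S p 𝓘 := cokernel.π (d p 𝓘)

instance : Epi (pi p 𝓘) := inferInstanceAs (Epi (cokernel.π _))

theorem d_pi : d p 𝓘 ≫ pi p 𝓘 = 0 := cokernel.condition _

theorem exact_d_pi : (ShortComplex.mk (d p 𝓘) (pi p 𝓘) (d_pi p 𝓘)).Exact :=
  ShortComplex.exact_cokernel _

theorem pi_d {U : X.Etale} (s : EtCoh.sect (K (jn 𝓘 p)) U) :
    (pi p 𝓘).hom.app (op U) ((d p 𝓘).hom.app (op U) s) = 0 :=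
  congrArg (fun k => k.hom.app (op U) s) (d_pi p 𝓘)

/-- The class of a form. -/
noncomputable def cl {U : X.Etale} (θ : Ω[Γ(U.left, ⊤)⁄ZZ.{u}]) (h : θ ∈ JΩ (jn 𝓘 1) U) :
    EtCoh.sect (S p 𝓘) U := (pi p 𝓘).hom.app (op U) (toS (jn 𝓘 1) θ h)

theorem cl_congr {U : X.Etale} {θ θ' : Ω[Γ(U.left, ⊤)⁄ZZ.{u}]} (e : θ = θ')
    (h : θ ∈ JΩ (jn 𝓘 1) U) (h' : θ' ∈ JΩ (jn 𝓘 1) U) : cl p 𝓘 θ h = cl p 𝓘 θ' h' := by
  subst e
  rfl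

theorem cl_add {U : X.Etale} {θ θ' : Ω[Γ(U.left, ⊤)⁄ZZ.{u}]}
    (h : θ ∈ JΩ (jn 𝓘 1) U) (h' : θ' ∈ JΩ (jn 𝓘 1) U) (h'' : θ + θ' ∈ JΩ (jn 𝓘 1) U) :
    cl p 𝓘 (θ + θ') h'' = cl p 𝓘 θ h + cl p 𝓘 θ' h' := by
  unfold cl
  rw [toS_add _ h h']
  exact map_add ((pi p 𝓘).hom.app (op U)).hom _ _

theorem cl_map {U V : X.Etale} (g : V ⟶ U) {θ : Ω[Γ(U.left, ⊤)⁄ZZ.{u}]}
    (h : θ ∈ JΩ (jn 𝓘 1) U) : (S p 𝓘).obj.map g.op (cl p 𝓘 θ h) =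
      cl p 𝓘 (mapΩ g θ) (mapΩ_mem _ g h) := by
  unfold cl
  rw [← toS_map _ g h, nat_apply]

theorem cl_eq_of_sub {U : X.Etale} (hU : Good p 𝓘 U) {θ θ' : Ω[Γ(U.left, ⊤)⁄ZZ.{u}]}
    (h : θ ∈ JΩ (jn 𝓘 1) U) (h' : θ' ∈ JΩ (jn 𝓘 1) U) (a : Γ(U.left, ⊤))
    (ha : a ∈ J (jn 𝓘 p) U) (e : θ - θ' = KaehlerDifferential.D ZZ.{u} _ a) :
    cl p 𝓘 θ h = cl p 𝓘 θ' h' := by
  have h1 := pi_d p 𝓘 (toK (jn 𝓘 p) a ha)
  rw [d_app hU] at h1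
  have h2 : cl p 𝓘 θ h = cl p 𝓘 (θ' + KaehlerDifferential.D ZZ.{u} _
      (val (jn 𝓘 p) (toK (jn 𝓘 p) a ha)))
      (Submodule.add_mem _ h' (D_mem_JΩ hU (val_mem _ _))) := by
    apply cl_congr
    rw [val_toK, ← e]
    abel
  rw [h2, cl_add p 𝓘 h' (D_mem_JΩ hU (val_mem _ _))]
  have h3 : cl p 𝓘 (KaehlerDifferential.D ZZ.{u} _ (val (jn 𝓘 p) (toK (jn 𝓘 p) a ha)))
    (D_mem_JΩ hU (val_mem _ _)) = 0 := h1
  rw [h3, add_zero]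

variable {p 𝓘}

theorem sub_mem {U : X.Etale} {t : Γ(U.left, ⊤)} (ht : t ∈ J (jn 𝓘 1) U)
    (η γ : Ω[Γ(U.left, ⊤)⁄ZZ.{u}]) : t • η - t ^ p • γ ∈ JΩ (jn 𝓘 1) U :=
  Submodule.sub_mem _ (smul_mem_JΩ ht η) (pow_smul_mem_JΩ ht γ)

/-- The values do not depend on the choices. -/
theorem cl_indep {U : X.Etale} (hU : Good p 𝓘 U) [CharP Γ(U.left, ⊤) p]
    {t : Γ(U.left, ⊤)} (ht : t ∈ J (jn 𝓘 1) U) {η γ η' γ' : Ω[Γ(U.left, ⊤)⁄ZZ.{u}]}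
    (hη : Rel p η γ) (hη' : Rel p η' γ') (e : gt hU • η = t • η') :
    cl p 𝓘 (gt hU • η - gt hU ^ p • γ) (sub_mem ((mem_J1 hU).2 dvd_rfl) _ _) =
      cl p 𝓘 (t • η' - t ^ p • γ') (sub_mem ht _ _) := by
  have := hU.dom
  obtain ⟨c⟩ := exists_chart hU.pb
  obtain ⟨v, hv⟩ := (mem_J1 hU).1 ht
  obtain ⟨g, hg⟩ := phi_indep c (gt_ne hU) (hv.trans (mul_comm _ _)) e hη hη'
  exact cl_eq_of_sub p 𝓘 hU _ _ _ ((mem_J hU p).2 (dvd_mul_right _ g)) hg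

variable (p 𝓘)

/-- The value of `phi` on a form. -/
theorem exists_value (U : X.Etale) (hU : Good p 𝓘 U) (ω : Ω[Γ(U.left, ⊤)⁄ZZ.{u}])
    (hω : ω ∈ JΩ (jn 𝓘 1) U) :
    ∃ s : EtCoh.sect (S p 𝓘) U, ∀ (_ : CharP Γ(U.left, ⊤) p) (t : Γ(U.left, ⊤))
      (ht : t ∈ J (jn 𝓘 1) U) (η γ : Ω[Γ(U.left, ⊤)⁄ZZ.{u}]), Rel p η γ → ω = t • η →
        s = cl p 𝓘 (t • η - t ^ p • γ) (sub_mem ht _ _) := by
  have := hU.chr
  obtain ⟨η, rfl⟩ := (mem_JΩ hU).1 hω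
  obtain ⟨γ, hγ⟩ := exists_rel p η
  exact ⟨_, fun _ t ht η' γ' hη' e => cl_indep hU ht hγ hη' e⟩

theorem exists_phi : ∃ f : Q (jn 𝓘 1) ⟶ S p 𝓘,
    ∀ (U : X.Etale) (_ : Good p 𝓘 U) (_ : CharP Γ(U.left, ⊤) p) (t : Γ(U.left, ⊤))
      (ht : t ∈ J (jn 𝓘 1) U) (η γ : Ω[Γ(U.left, ⊤)⁄ZZ.{u}]), Rel p η γ →
        f.hom.app (op U) (toS (jn 𝓘 1) (t • η) (smul_mem_JΩ ht η)) =
          cl p 𝓘 (t • η - t ^ p • γ) (sub_mem ht _ _) := by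
  obtain ⟨f, hf⟩ := exists_of_Q (Good p 𝓘) (jn 𝓘 1) (fun U hU => hU.aff) (S p 𝓘)
    (fun U hU ω hω => (exists_value p 𝓘 U hU ω hω).choose)
    (fun U hU ω ω' h h' h'' => by
      have := hU.chr
      obtain ⟨η, hη⟩ := (mem_JΩ hU).1 h
      obtain ⟨η', hη'⟩ := (mem_JΩ hU).1 h'
      obtain ⟨γ, hγ⟩ := exists_rel p η
      obtain ⟨γ', hγ'⟩ := exists_rel p η'
      have ht : gt hU ∈ J (jn 𝓘 1) U := (mem_J1 hU).2 dvd_rfl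
      rw [(exists_value p 𝓘 U hU _ h'').choose_spec inferInstance (gt hU) ht (η + η') (γ + γ')
        (rel_add p hγ hγ') (by rw [smul_add, hη, hη']),
        (exists_value p 𝓘 U hU _ h).choose_spec inferInstance (gt hU) ht η γ hγ hη.symm,
        (exists_value p 𝓘 U hU _ h').choose_spec inferInstance (gt hU) ht η' γ' hγ' hη'.symm,
        ← cl_add p 𝓘 _ _ (Submodule.add_mem _ (sub_mem ht _ _) (sub_mem ht _ _))]
      apply cl_congr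
      rw [smul_add, smul_add]
      abel)
    (fun U V hU hV g ω h h' => by
      have := hU.chr
      have := hV.chr
      obtain ⟨η, rfl⟩ := (mem_JΩ hU).1 h
      obtain ⟨γ, hγ⟩ := exists_rel p η
      have ht : gt hU ∈ J (jn 𝓘 1) U := (mem_J1 hU).2 dvd_rfl
      rw [(exists_value p 𝓘 U hU _ h).choose_spec inferInstance (gt hU) ht η γ hγ rfl,
        (exists_value p 𝓘 V hV _ h').choose_spec inferInstance (g.left.appTop (gt hU))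
          (map_mem _ g ht) (mapΩ g η) (mapΩ g γ) (rel_map p g hγ) (mapΩ_smul g _ _), cl_map]
      apply cl_congr
      rw [map_sub, mapΩ_smul, mapΩ_smul, map_pow])
  refine ⟨f, fun U hU hc t ht η γ hγ => ?_⟩
  rw [hf U hU, (exists_value p 𝓘 U hU _ (smul_mem_JΩ ht η)).choose_spec hc t ht η γ hγ rfl]

/-- The operator `1 - C⁻¹`. -/
noncomputable def phi : Q (jn 𝓘 1) ⟶ S p 𝓘 := (exists_phi p 𝓘).choose

variable {p 𝓘}

theorem phi_app {U : X.Etale} (hU : Good p 𝓘 U) [hc : CharP Γ(U.left, ⊤) p] {t : Γ(U.left, ⊤)}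
    (ht : t ∈ J (jn 𝓘 1) U) {η γ : Ω[Γ(U.left, ⊤)⁄ZZ.{u}]} (h : Rel p η γ) :
    (phi p 𝓘).hom.app (op U) (toS (jn 𝓘 1) (t • η) (smul_mem_JΩ ht η)) =
      cl p 𝓘 (t • η - t ^ p • γ) (sub_mem ht _ _) :=
  (exists_phi p 𝓘).choose_spec U hU hc t ht η γ h

end

end K951.Phi
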