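import Groth.Agent.Dix.K951.GoodBase
import Groth.Agent.CurvesA.ArtinSchreier
import Groth.Agent.Sga5x.H857.KumCls
import Groth.Agent.Dix.EtaleSieve
import Groth.Agent.Dix.Invertible
import Groth.Agent.CurvesA.MuConst
import Groth.Prelude.Def_EtLim

/-!
# Étale sheaves on a base; the sheaves `K i` and `GI i`
-/

set_option autoImplicit false
set_option linter.unusedSectionVars false

universe u

open CategoryTheory CategoryTheory.Limits AlgebraicGeometry Opposite

namespace K951.Shv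

open Groth.Agent Groth.Agent.Etbase Groth.Agent.Etbc.H212.ASClosed Groth.Agent.Etbc.H212.KQC
open Groth.Agent.Sga4h.KerSect
open K951.PChart K951.OmegaP K951.AffSheaf
open scoped K951.PChart

variable {X : Scheme.{u}}

/-- A function pulls back to a unit if its basic open contains the image. -/
theorem isUnit_of_forall_mem {A B : Scheme.{u}} (m : A ⟶ B) (a : Γ(B, ⊤))
    (h : ∀ w : A, m w ∈ B.basicOpen a) : IsUnit (m.appTop a) := by
  apply Groth.Agent.Dix.Invertible.isUnit_of_basicOpen_eq_top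
  rw [← Scheme.preimage_basicOpen_top]
  ext w
  exact ⟨fun _ => trivial, fun _ => h w⟩

section base

variable (𝓑 : ObjectProperty X.Etale) [hB : IsBase 𝓑]

theorem map_comp_apply (F : EtCoh.Ab X) {U V W : X.Etale} (k : W ⟶ V) (g : V ⟶ U)
    (s : EtCoh.sect F U) : F.obj.map (k ≫ g).op s = F.obj.map k.op (F.obj.map g.op s) := by
  rw [op_comp, F.obj.map_comp]
  rfl

theorem nat_apply {F G : EtCoh.Ab X} (f : F ⟶ G) {U V : X.Etale} (g : V ⟶ U) (s : EtCoh.sect F U) :
    f.hom.app (op V) (F.obj.map g.op s) = G.obj.map g.op (f.hom.app (op U) s) :=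
  congrArg (fun φ => φ s) (f.hom.naturality g.op)

include hB in
theorem mono_of_base {F G : EtCoh.Ab X} (f : F ⟶ G)
    (h : ∀ U, 𝓑 U → ∀ s : EtCoh.sect F U, f.hom.app (op U) s = 0 → s = 0) : Mono f := by
  have h1 : ∀ U : X.Etale, ∀ s : EtCoh.sect F U, f.hom.app (op U) s = 0 → s = 0 := by
    intro U s hs
    refine EtSite.sect_ext F U s 0 fun x => ?_
    obtain ⟨V, g, v, hV, hv⟩ := IsBase.ex (Q := 𝓑) U x
    refine ⟨V, g, v, hv, ?_⟩
    rw [map_zero]
    apply h V hV
    rw [nat_apply, hs, map_zero]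
  constructor
  intro T a b hab
  apply ObjectProperty.hom_ext
  ext U s
  have h2 := congrArg (fun φ => φ.hom.app U s) hab
  rw [← sub_eq_zero]
  apply h1 U.unop
  change f.hom.app U (a.hom.app U s - b.hom.app U s) = 0
  rw [map_sub, sub_eq_zero]
  exact h2

include hB in
theorem epi_of_base {F G : EtCoh.Ab X} (f : F ⟶ G)
    (h : ∀ U, 𝓑 U → ∀ (s : EtCoh.sect G U) (x : U.left), ∃ (V : X.Etale) (g : V ⟶ U) (v : V.left)
      (t : EtCoh.sect F V), g.left v = x ∧ f.hom.app (op V) t = G.obj.map g.op s) : Epi f := by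
  rw [Groth.Agent.Dix.EtaleSieve.epi_iff]
  intro U s x
  obtain ⟨V, g, v, hV, rfl⟩ := IsBase.ex (Q := 𝓑) U x
  obtain ⟨W, k, w, t, rfl, ht⟩ := h V hV (G.obj.map g.op s) v
  refine ⟨W, k ≫ g, ⟨w, rfl⟩, t, ?_⟩
  rw [ht, map_comp_apply]

include hB in
theorem exact_of_base {F G H : EtCoh.Ab X} (f : F ⟶ G) (g : G ⟶ H) (w : f ≫ g = 0)
    (h : ∀ U, 𝓑 U → ∀ s : EtCoh.sect G U, g.hom.app (op U) s = 0 → ∀ x : U.left,
      ∃ (V : X.Etale) (k : V ⟶ U) (v : V.left) (t : EtCoh.sect F V), k.left v = x ∧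
        f.hom.app (op V) t = G.obj.map k.op s) : (ShortComplex.mk f g w).Exact := by
  apply Groth.Agent.CurvesA.ArtinSchreier.exact_of_local
  intro U s hs x
  obtain ⟨V, a, v, hV, rfl⟩ := IsBase.ex (Q := 𝓑) U x
  have h1 : g.hom.app (op V) (G.obj.map a.op s) = 0 := by
    rw [nat_apply]
    have h2 : g.hom.app (op U) s = 0 := hs
    rw [h2, map_zero]
  obtain ⟨W, k, w, t, rfl, ht⟩ := h V hV (G.obj.map a.op s) h1 v
  refine ⟨W, k ≫ a, ⟨w, rfl⟩, t, ?_⟩
  change f.hom.app (op W) t = G.obj.map (k ≫ a).op s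
  rw [ht, map_comp_apply]

include hB in
/-- Local lifting along an epimorphism, with values in the base. -/
theorem lift_of_epi {F G : EtCoh.Ab X} (f : F ⟶ G) [he : Epi f] (U : X.Etale) (s : EtCoh.sect G U)
    (x : U.left) : ∃ (V : X.Etale) (g : V ⟶ U) (v : V.left) (t : EtCoh.sect F V), 𝓑 V ∧
      g.left v = x ∧ f.hom.app (op V) t = G.obj.map g.op s := by
  obtain ⟨V, g, ⟨v, rfl⟩, t, ht⟩ := (Groth.Agent.Dix.EtaleSieve.epi_iff f).1 he U s x
  obtain ⟨W, k, w, hW, rfl⟩ := IsBase.ex (Q := 𝓑) V v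
  refine ⟨W, k ≫ g, w, F.obj.map k.op t, hW, rfl, ?_⟩
  rw [nat_apply, ht, map_comp_apply]

include hB in
/-- Local lifting in an exact sequence, with values in the base. -/
theorem lift_of_exact {F G H : EtCoh.Ab X} {f : F ⟶ G} {g : G ⟶ H} {w : f ≫ g = 0}
    (he : (ShortComplex.mk f g w).Exact) (U : X.Etale) (s : EtCoh.sect G U)
    (hs : g.hom.app (op U) s = 0) (x : U.left) :
    ∃ (V : X.Etale) (k : V ⟶ U) (v : V.left) (t : EtCoh.sect F V), 𝓑 V ∧
      k.left v = x ∧ f.hom.app (op V) t = G.obj.map k.op s := by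
  obtain ⟨V, k, ⟨v, rfl⟩, t, ht⟩ := Groth.Agent.Sga5x.H857.KumCls.local_of_exact he U s hs x
  obtain ⟨W, l, w, hW, rfl⟩ := IsBase.ex (Q := 𝓑) V v
  refine ⟨W, l ≫ k, w, F.obj.map l.op t, hW, rfl, ?_⟩
  rw [nat_apply]
  refine (congrArg _ ht).trans ?_
  exact (map_comp_apply G l k s).symm

include hB in
/-- Shrinking around a point where a function is invertible. -/
theorem exists_unit (U : X.Etale) (a : Γ(U.left, ⊤)) (x : U.left) (hx : x ∈ U.left.basicOpen a) :
    ∃ (V : X.Etale) (g : V ⟶ U) (v : V.left), 𝓑 V ∧ g.left v = x ∧ IsUnit (g.left.appTop a) := by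
  obtain ⟨V, g, v, hV, hv⟩ := IsBase.ex (Q := 𝓑) (Desc.EtSheafCrit.opn U (U.left.basicOpen a)) ⟨x, hx⟩
  refine ⟨V, g ≫ Desc.EtSheafCrit.inc U _, v, hV, ?_, ?_⟩
  · change (Desc.EtSheafCrit.inc U _).left (g.left v) = x
    rw [hv]
    rfl
  · exact isUnit_of_forall_mem _ a fun w => by
      change (Desc.EtSheafCrit.inc U _).left (g.left w) ∈ U.left.basicOpen a
      exact (g.left w : ((U.left.basicOpen a : U.left.Opens) : Scheme.{u})).2

end base

/-! ### Sections of `K i` -/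

section K

variable {Z : Scheme.{u}} (i : Z ⟶ X)

theorem val_add {U : X.Etale} (s t : EtCoh.sect (K i) U) : val i (s + t) = val i s + val i t :=
  congrArg Subtype.val ((eK i U).map_add s t)

theorem val_zero {U : X.Etale} : val i (0 : EtCoh.sect (K i) U) = 0 :=
  congrArg Subtype.val ((eK i U).map_zero)

theorem val_sub {U : X.Etale} (s t : EtCoh.sect (K i) U) : val i (s - t) = val i s - val i t :=
  congrArg Subtype.val ((eK i U).map_sub s t)

/-- The section of `K i` given by a function. -/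
noncomputable def toK {U : X.Etale} (a : Γ(U.left, ⊤)) (ha : a ∈ J i U) : EtCoh.sect (K i) U :=
  (exists_val i U a ha).choose

theorem val_toK {U : X.Etale} (a : Γ(U.left, ⊤)) (ha : a ∈ J i U) : val i (toK i a ha) = a :=
  (exists_val i U a ha).choose_spec

end K

/-! ### The sheaf of units congruent to one -/

section G

variable {Z : Scheme.{u}} (i : Z ⟶ X)

/-- The units which are `1` on the closed subscheme. -/
noncomputable def GI : EtCoh.Ab X := kernel (EtLim.GmPush i)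

/-- The underlying unit. -/
noncomputable def uval {U : X.Etale} (s : EtCoh.sect (GI i) U) : (Γ(U.left, ⊤))ˣ :=
  Groth.Agent.CurvesA.MuConst.unitOf ((kernel.ι (EtLim.GmPush i)).hom.app (op U) s)

theorem uval_injective {U : X.Etale} {s t : EtCoh.sect (GI i) U} (h : uval i s = uval i t) :
    s = t := by
  apply kernel_ι_injective (EtLim.GmPush i) U
  exact ULift.down_injective h

theorem uval_add {U : X.Etale} (s t : EtCoh.sect (GI i) U) :
    uval i (s + t) = uval i s * uval i t :=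
  congrArg (fun z : EtCoh.sect (EtCoh.Gm X) U => Groth.Agent.CurvesA.MuConst.unitOf z)
    (map_add ((kernel.ι (EtLim.GmPush i)).hom.app (op U)).hom s t)

theorem uval_zero {U : X.Etale} : uval i (0 : EtCoh.sect (GI i) U) = 1 :=
  congrArg (fun z : EtCoh.sect (EtCoh.Gm X) U => Groth.Agent.CurvesA.MuConst.unitOf z)
    (map_zero ((kernel.ι (EtLim.GmPush i)).hom.app (op U)).hom)

theorem uval_map {U V : X.Etale} (g : V ⟶ U) (s : EtCoh.sect (GI i) U) :
    uval i ((GI i).obj.map g.op s) = Units.map g.left.appTop.hom.toMonoidHom (uval i s) := by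
  have h := nat_apply (kernel.ι (EtLim.GmPush i)) g s
  exact congrArg (fun z : EtCoh.sect (EtCoh.Gm X) V => Groth.Agent.CurvesA.MuConst.unitOf z) h

theorem uval_map_val {U V : X.Etale} (g : V ⟶ U) (s : EtCoh.sect (GI i) U) :
    (uval i ((GI i).obj.map g.op s) : Γ(V.left, ⊤)) = g.left.appTop (uval i s : Γ(U.left, ⊤)) := by
  rw [uval_map]
  rfl

theorem uval_mem {U : X.Etale} (s : EtCoh.sect (GI i) U) :
    (uval i s : Γ(U.left, ⊤)) - 1 ∈ J i U := by
  have h := kernel_ι_app_comp (EtLim.GmPush i) U s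
  have h2 := congrArg (fun z : EtCoh.sect (EtCoh.Gm Z) ((EtCoh.bc i).obj U) =>
    Groth.Agent.CurvesA.MuConst.unitOf z) h
  have h3 : (bcFst i U).appTop (uval i s : Γ(U.left, ⊤)) = 1 :=
    congrArg (fun z : Γ(((EtCoh.bc i).obj U).left, ⊤)ˣ => (z : Γ(((EtCoh.bc i).obj U).left, ⊤))) h2
  rw [mem_J_iff, map_sub, map_one, sub_eq_zero]
  exact h3

theorem exists_uval {U : X.Etale} (u : (Γ(U.left, ⊤))ˣ) (hu : (u : Γ(U.left, ⊤)) - 1 ∈ J i U) :
    ∃ s : EtCoh.sect (GI i) U, uval i s = u := by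
  obtain ⟨s, hs⟩ := exists_kernel_section (EtLim.GmPush i) U
    (ULift.up (Additive.ofMul u) : ULift.{u + 1} (Additive (Γ(U.left, ⊤))ˣ)) (by
      apply ULift.ext
      apply Additive.toMul.injective
      apply Units.ext
      rw [mem_J_iff, map_sub, map_one, sub_eq_zero] at hu
      exact hu)
  exact ⟨s, congrArg (fun z : EtCoh.sect (EtCoh.Gm X) U => Groth.Agent.CurvesA.MuConst.unitOf z) hs⟩

/-- The section given by a unit. -/
noncomputable def toG {U : X.Etale} (u : (Γ(U.left, ⊤))ˣ) (hu : (u : Γ(U.left, ⊤)) - 1 ∈ J i U) :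
    EtCoh.sect (GI i) U := (exists_uval i u hu).choose

theorem uval_toG {U : X.Etale} (u : (Γ(U.left, ⊤))ˣ) (hu : (u : Γ(U.left, ⊤)) - 1 ∈ J i U) :
    uval i (toG i u hu) = u := (exists_uval i u hu).choose_spec

theorem uval_nsmul {U : X.Etale} (n : ℕ) (s : EtCoh.sect (GI i) U) :
    uval i (n • s) = uval i s ^ n := by
  induction n with
  | zero => rw [zero_smul, uval_zero, pow_zero]
  | succ n ih => rw [succ_nsmul, uval_add, ih, pow_succ]

end G

end K951.Shv
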